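import Cfsg.Agent.H563.FC.Spe
import Cfsg.Agent.H563.FC.Cnt
import Cfsg.Agent.H786.FC.Parts
import Mathlib
import Cfsg.Agent.H324.FC.Fld
import Cfsg.Agent.H412.FC.BBridge
import Cfsg.Agent.H5.FC.Hyp
import Cfsg.Agent.H578.Base3
set_option linter.all false

-- part: H214/FC/C6Fix
section
/-!
# S5764 [B-C6x]: extraspecial type normalizers, `n = 7` or `n ≥ 9` (helper214, proof of helper429, tools of helper563)

`fixB` : if `t = 1 + N` is a transvection and `f, t f t⁻¹ ∈ S` then `f N = N`.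
`card_eig_le'` : the number of eigenvectors of an element with scalar `r`-th power.
-/

set_option autoImplicit false

namespace Cfsg.Agent.H214.FC

open Cfsg.Agent.H198.FC Cfsg.Agent.H277.FC Cfsg.Agent.H706.FC Cfsg.Agent.H563.FC

universe u v

variable {K : Type u} [Field K] {V : Type v} [AddCommGroup V] [Module K V]

/-- **(h3)** -/
theorem fixB [Finite K] [Module.Finite K V] {b : Cl K V} {S A : Subgroup (Equiv.Perm (R K V))} {r a : ℕ}
    (hSb : S ≤ RB b) (h : C6Data S A r a) (hn : Module.finrank K V = 7 ∨ 9 ≤ Module.finrank K V)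
    {N : R K V} {w : V} (hN : Nil b N w) {f : Equiv.Perm (R K V)} (hf : f ∈ S)
    (hx : cj K V (uN N hN.sq) * f * (cj K V (uN N hN.sq))⁻¹ ∈ S) : f N = N := by
  obtain ⟨φ, hφ0, hφ⟩ := hN.ex
  have hfP := RB_le (hSb hf)
  obtain ⟨h', hh, hfh⟩ := stmtSN K V (by omega) f hfP
  obtain ⟨hadd, σ, hσ⟩ := hh
  have hfN : ∀ v, f N v = σ (φ (h'.symm v)) • h' w := by
    intro v
    obtain ⟨v', rfl⟩ := h'.surjective v
    rw [hfh, hφ, hσ, Equiv.symm_apply_apply]
  set t := uN N hN.sq with ht
  have hcS := cj_mem_of hfP hf hx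
  have hR : LinearMap.range ((t * (fu hfP t)⁻¹ : (R K V)ˣ) - 1 : R K V) = LinearMap.range (N - f N) := by
    have h3 : ((t * (fu hfP t)⁻¹ : (R K V)ˣ) : R K V) - 1 = (N - f N) * ((fu hfP t)⁻¹ : (R K V)ˣ) := by
      have h4 : N - f N = (t : R K V) - (fu hfP t : R K V) := by
        rw [fu_val, ht, uN_val, hfP.1, RP_map_one hfP]
        abel
      rw [h4, sub_mul, Units.mul_inv, Units.val_mul]
    rw [h3]
    ext v
    constructor
    · rintro ⟨u, rfl⟩
      exact ⟨_, rfl⟩
    · rintro ⟨u, rfl⟩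
      refine ⟨(fu hfP t : R K V) u, ?_⟩
      rw [← Module.End.mul_apply, mul_assoc, Units.inv_mul, mul_one]
  have hg : ∀ c ∈ A, cj K V (t * (fu hfP t)⁻¹) * c * (cj K V (t * (fu hfP t)⁻¹))⁻¹ ∈ A :=
    fun c hc => h.2.2.2.2.2.2.2.2.2.1 _ hcS _ hc
  have h1 := rank_two h hg (by
    rw [hR]
    refine finrank_range_le_two (w := w) (w' := h' w) fun v => ⟨φ v, - σ (φ (h'.symm v)), ?_⟩
    rw [LinearMap.sub_apply, hφ, hfN, neg_smul, sub_eq_add_neg]) hn
  have h2 : t = fu hfP t := mul_inv_eq_one.1 h1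
  have h3 := congrArg Units.val h2
  rw [fu_val, ht, uN_val, hfP.1, RP_map_one hfP] at h3
  exact (add_left_cancel h3).symm

/-- the eigenvectors of an endomorphism with scalar `r`-th power -/
theorem card_eig_le' [Finite K] [Module.Finite K V] (y : R K V) {r : ℕ} (hr : 0 < r) {c : K}
    (hc : y ^ r = c • (1 : R K V)) {k : ℕ}
    (hk : ∀ l : K, Module.finrank K (Module.End.eigenspace y l) ≤ k) :
    Nat.card {w : V // w ≠ 0 ∧ ∃ l : K, y w = l • w} ≤ r * Nat.card K ^ k := by
  classical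
  have hfinV : Finite V := Module.finite_of_finite K
  have := Fintype.ofFinite K
  have hE : ∀ l : K, Nat.card (Module.End.eigenspace y l) ≤ Nat.card K ^ k := by
    intro l
    rw [Module.natCard_eq_pow_finrank (K := K)]
    exact Nat.pow_le_pow_right Nat.card_pos (hk l)
  let L : Finset K := (Polynomial.nthRoots r c).toFinset
  have hL : L.card ≤ r := (Multiset.toFinset_card_le _).trans (Polynomial.card_nthRoots r c)
  have hpow : ∀ (w : V) (l : K), y w = l • w → ∀ i : ℕ, (y ^ i) w = l ^ i • w := by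
    intro w l hl i
    induction i with
    | zero => rw [pow_zero, pow_zero, one_smul, Module.End.one_apply]
    | succ i ih => rw [pow_succ, Module.End.mul_apply, hl, map_smul, ih, smul_smul, pow_succ, mul_comm]
  have hmem : ∀ (w : V) (l : K), w ≠ 0 → y w = l • w → l ∈ L := by
    intro w l hw hl
    rw [Multiset.mem_toFinset, Polynomial.mem_nthRoots hr]
    have h1 := hpow w l hl r
    rw [hc, LinearMap.smul_apply, Module.End.one_apply] at h1
    exact (smul_left_injective K hw h1).symm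
  let Φ : {w : V // w ≠ 0 ∧ ∃ l : K, y w = l • w} → Σ l : L, Module.End.eigenspace y (l : K) := fun w =>
    ⟨⟨w.2.2.choose, hmem _ _ w.2.1 w.2.2.choose_spec⟩, ⟨w, by
      rw [Module.End.mem_eigenspace_iff]; exact w.2.2.choose_spec⟩⟩
  have hΦ : ∀ w, (((Φ w).2 : Module.End.eigenspace y ((Φ w).1 : K)) : V) = w := fun _ => rfl
  have hinj : Function.Injective Φ := by
    intro w w' hww
    apply Subtype.ext
    rw [← hΦ w, ← hΦ w', hww]
  have h2 := Nat.card_le_card_of_injective Φ hinj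
  rw [Nat.card_sigma] at h2
  refine h2.trans ((Finset.sum_le_card_nsmul Finset.univ
    (fun l : L => Nat.card (Module.End.eigenspace y (l : K))) (Nat.card K ^ k) fun l _ => hE l).trans ?_)
  rw [Finset.card_univ, Fintype.card_coe, smul_eq_mul]
  exact Nat.mul_le_mul_right _ hL

section dat

variable [Finite K] [Module.Finite K V] {S A : Subgroup (Equiv.Perm (R K V))} {r a : ℕ}

/-- **(h1)** : the number of vectors which are eigenvectors of a non-scalar element of `Hat A` -/
theorem card_bad (h : C6Data S A r a) {k : ℕ} (hk : Module.finrank K V = r * k) :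
    Nat.card {w : V // w ≠ 0 ∧ ∃ y ∈ Hat A, ¬ Scal y ∧ ∃ l : K, (y : R K V) w = l • w} ≤
      (Module.finrank K V ^ 2 - 1) * (r * Nat.card K ^ k) := by
  classical
  have := nontrivial_of h
  have hfinV : Finite V := Module.finite_of_finite K
  have hfin : Finite A := Nat.finite_of_card_ne_zero (by
    rw [h.2.2.2.2.2.1]; exact pow_ne_zero _ h.1.ne_zero)
  have := Fintype.ofFinite A
  have hlift : ∀ f : A, ∃ x : (R K V)ˣ, cj K V x = f := fun f => h.2.2.2.2.1 f.2
  choose s hs using hlift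
  let I := {f : A // f ≠ 1}
  have hI : Fintype.card I = Module.finrank K V ^ 2 - 1 := by
    have h1 : Fintype.card A = Module.finrank K V ^ 2 := by
      rw [← Nat.card_eq_fintype_card, h.2.2.2.2.2.1, h.2.2.1, ← pow_mul, mul_comm]
    rw [← h1]
    simp only [I]
    rw [Fintype.card_subtype_compl, Fintype.card_subtype_eq]
  have hsH : ∀ f : A, s f ∈ Hat A := fun f => by rw [mem_Hat, hs]; exact f.2
  have hns : ∀ f : I, ¬ Scal (s f.1) := by
    intro f hf
    apply f.2
    apply Subtype.ext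
    rw [← hs, cj_of_scal hf]
    rfl
  have key : ∀ w : {w : V // w ≠ 0 ∧ ∃ y ∈ Hat A, ¬ Scal y ∧ ∃ l : K, (y : R K V) w = l • w},
      ∃ f : I, ∃ l : K, (s f.1 : R K V) w = l • (w : V) := by
    rintro ⟨w, hw, y, hy, hys, l, hl⟩
    refine ⟨⟨⟨cj K V y, hy⟩, fun h1 => hys (scal_of_cj (congrArg Subtype.val h1))⟩, ?_⟩
    obtain ⟨c, hc0, hc⟩ := cj_eq (x := y) (y := s ⟨cj K V y, hy⟩) (hs ⟨cj K V y, hy⟩).symm
    refine ⟨c⁻¹ * l, ?_⟩
    rw [hc, LinearMap.smul_apply] at hl
    rw [mul_smul, ← hl, smul_smul, inv_mul_cancel₀ hc0, one_smul]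
  choose F hF using key
  let Φ : {w : V // w ≠ 0 ∧ ∃ y ∈ Hat A, ¬ Scal y ∧ ∃ l : K, (y : R K V) w = l • w} →
      Σ f : I, {w : V // w ≠ 0 ∧ ∃ l : K, (s f.1 : R K V) w = l • w} := fun w =>
    ⟨F w, ⟨w, w.2.1, hF w⟩⟩
  have hΦ : ∀ w, (((Φ w).2 : {w' : V // w' ≠ 0 ∧ ∃ l : K, (s (Φ w).1.1 : R K V) w' = l • w'}) : V) = w :=
    fun _ => rfl
  have hinj : Function.Injective Φ := by
    intro w w' hww
    apply Subtype.ext
    rw [← hΦ w, ← hΦ w', hww]
  have h2 := Nat.card_le_card_of_injective Φ hinj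
  rw [Nat.card_sigma] at h2
  refine h2.trans ((Finset.sum_le_card_nsmul _ _ (r * Nat.card K ^ k) fun f _ => ?_).trans ?_)
  · obtain ⟨c, hc⟩ := pow_scal h (hsH f.1)
    rw [Units.val_pow_eq_pow_val] at hc
    refine card_eig_le' _ h.1.pos hc fun l => ?_
    have h3 := eig_le h (hsH f.1) (hns f) l
    rw [hk] at h3
    exact Nat.le_of_mul_le_mul_left h3 h.1.pos
  · rw [Finset.card_univ, hI, smul_eq_mul]

end dat

end Cfsg.Agent.H214.FC
end

-- part: H214/FC/IsoU
section
/-!
# Isotropic vectors of unitary forms in all characteristics (helper214, after helper563)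
-/

set_option autoImplicit false

namespace Cfsg.Agent.H214.FC

open Cfsg.Agent.H198.FC Cfsg.Agent.H706.FC Cfsg.Agent.H563.FC

universe u v

variable {K : Type u} [Field K] {V : Type v} [AddCommGroup V] [Module K V] {b : Cl K V}

/-- the trace `K → K₀` is surjective -/
theorem exists_trace {τ : K ≃+* K} (hinv : ∀ a, τ (τ a) = a) {ε : K} (hε : τ ε ≠ ε) :
    ∀ d ∈ K0 τ, ∃ x, x + τ x = d := by
  have h1 : ∃ z, z + τ z ≠ 0 := by
    by_contra hcon
    push Not at hcon
    have e1 := hcon 1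
    rw [map_one] at e1
    have e2 := hcon ε
    apply hε
    have e3 : ε + ε = (1 + 1) * ε := by ring
    rw [e1, zero_mul] at e3
    have e4 : ε + τ ε = ε + ε := by rw [e2, e3]
    exact add_left_cancel e4
  obtain ⟨z, hz⟩ := h1
  intro d hd
  refine ⟨d * z / (z + τ z), ?_⟩
  have h2 : τ (z + τ z) = z + τ z := by rw [map_add, hinv, add_comm]
  rw [map_div₀, map_mul, h2, mem_K0.1 hd, ← add_div, ← mul_add, mul_div_assoc, div_self hz, mul_one]

theorem exists_isotropic' [Finite K] [Module.Finite K V] (hU : b.IsU) (hn : 3 ≤ Module.finrank K V) :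
    ∃ e : V, e ≠ 0 ∧ b.B e e = 0 := by
  by_cases h2 : (2 : K) ≠ 0
  · exact exists_isotropic hU h2 hn
  push Not at h2
  by_contra hcon
  push Not at hcon
  obtain ⟨v1, h1, -⟩ := exists_perp b (k := 0) (fun i => i.elim0) (by omega)
  obtain ⟨v2, h2', h21⟩ := exists_perp b ![v1] (by omega)
  have e21 : b.B v2 v1 = 0 := h21 0
  have e12 := B_symm e21
  let d1 : K0 b.τ := ⟨b.B v1 v1, herm_mem hU v1⟩
  let d2 : K0 b.τ := ⟨b.B v2 v2, herm_mem hU v2⟩
  have hd1 : d1 ≠ 0 := fun h => hcon v1 h1 (congrArg Subtype.val h)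
  have hchar : ringChar (K0 b.τ) = 2 := by
    have h3 : ((2 : ℕ) : K0 b.τ) = 0 := Subtype.ext (by push_cast; exact h2)
    have h4 := (ringChar.spec (K0 b.τ) 2).1 h3
    rcases (Nat.dvd_prime Nat.prime_two).1 h4 with h5 | h5
    · exfalso
      have h6 : ((1 : ℕ) : K0 b.τ) = 0 := by rw [← h5]; exact ringChar.Nat.cast_ringChar
      rw [Nat.cast_one] at h6
      exact one_ne_zero h6
    · exact h5
  have : Finite (K0 b.τ) := Subtype.finite
  obtain ⟨x, hx⟩ := FiniteField.isSquare_of_char_two hchar (-(d2 / d1))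
  have hx' : d1 * (x * x) + d2 = 0 := by
    rw [← hx]
    field_simp
    ring
  have hxy' : b.B v1 v1 * ((x : K) * x) + b.B v2 v2 = 0 := by
    have := congrArg Subtype.val hx'
    push_cast at this
    exact this
  refine hcon ((x : K) • v1 + v2) ?_ ?_
  · intro h
    have h4 : b.B ((x : K) • v1 + v2) v2 = 0 := by rw [h, B_zero_left]
    rw [b.add_left, b.smul_left, e12, mul_zero, zero_add] at h4
    exact hcon v2 h2' h4
  · have hx : b.τ (x : K) = x := x.2
    simp only [b.add_left, b.add_right, b.smul_left, b.smul_right, hx, e12, e21]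
    linear_combination hxy'

theorem exists_hyp' [Finite K] [Module.Finite K V] (hU : b.IsU) (hn : 3 ≤ Module.finrank K V) :
    ∃ e f : V, b.B e e = 0 ∧ b.B f f = 0 ∧ b.B e f = 1 ∧ b.B f e = 1 := by
  obtain ⟨e, he0, hee⟩ := exists_isotropic' hU hn
  obtain ⟨u, hu⟩ := exists_right (b := b) he0
  obtain ⟨u', hu1⟩ : ∃ u', b.B u' e = 1 := ⟨(b.B u e)⁻¹ • u, by rw [b.smul_left, inv_mul_cancel₀ hu]⟩
  have hu2 : b.B e u' = 1 := by rw [hU.2 u' e, hu1, map_one]
  obtain ⟨ε, hε⟩ := hU.1
  obtain ⟨t, ht⟩ := exists_trace b.invol hε _ (herm_mem hU u')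
  refine ⟨e, u' - t • e, hee, ?_, ?_, ?_⟩
  · rw [B_sub_left, B_sub_right, B_sub_right, b.smul_left, b.smul_left, b.smul_right, b.smul_right, hu1, hu2, hee]
    linear_combination -ht
  · rw [B_sub_right, b.smul_right, hee, hu2, mul_zero, sub_zero]
  · rw [B_sub_left, b.smul_left, hee, hu1, mul_zero, sub_zero]

/-- pairwise non-proportional isotropic vectors, all characteristics -/
theorem exists_family' [Finite K] [Module.Finite K V] (hU : b.IsU) (hn : 3 ≤ Module.finrank K V) :
    ∃ X : Set V, (∀ w ∈ X, w ≠ 0 ∧ b.B w w = 0) ∧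
      (∀ w ∈ X, ∀ w' ∈ X, ∀ l : K, w' = l • w → w' = w) ∧
      Nat.card X * Nat.card K ^ 2 = Nat.card V * Nat.card (K0 b.τ) := by
  obtain ⟨e, f, hee, hff, hef, hfe⟩ := exists_hyp' hU hn
  obtain ⟨ε, hε⟩ := hU.1
  have hfinV : Finite V := Module.finite_of_finite K
  set δ : K := ε - b.τ ε with hδ
  have hδ0 : δ ≠ 0 := fun h => hε (sub_eq_zero.1 h).symm
  have hτδ : b.τ δ = -δ := by rw [hδ, map_sub, b.invol]; ring
  have htr := fun v : V => exists_trace b.invol hε _ (herm_mem hU v)
  choose tr htr using htr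
  -- the orthogonal complement of `e, f`
  let V' : Submodule K V :=
    { carrier := {v | b.B v e = 0 ∧ b.B v f = 0}
      add_mem' := fun {v w} hv hw => ⟨by rw [b.add_left, hv.1, hw.1, add_zero], by rw [b.add_left, hv.2, hw.2, add_zero]⟩
      zero_mem' := ⟨B_zero_left e, B_zero_left f⟩
      smul_mem' := fun a v hv => ⟨by rw [b.smul_left, hv.1, mul_zero], by rw [b.smul_left, hv.2, mul_zero]⟩ }
  have hV'e : ∀ v : V', b.B (v : V) e = 0 := fun v => v.2.1
  have hV'f : ∀ v : V', b.B (v : V) f = 0 := fun v => v.2.2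
  have hcardV : Nat.card V = Nat.card K * Nat.card K * Nat.card V' := by
    rw [← Nat.card_prod, ← Nat.card_prod]
    refine Nat.card_congr (Equiv.ofBijective
      (fun v : V => ((b.B v f, b.B v e), (⟨v - b.B v f • e - b.B v e • f, ?_, ?_⟩ : V'))) ⟨?_, ?_⟩)
    · rw [B_sub_left, B_sub_left, b.smul_left, b.smul_left, hee, hfe]; ring
    · rw [B_sub_left, B_sub_left, b.smul_left, b.smul_left, hff, hef]; ring
    · intro v w h
      have h1 := congrArg (fun p => p.1.1) h
      have h2 := congrArg (fun p => p.1.2) h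
      have h3 := congrArg (fun p => ((p.2 : V') : V)) h
      simp only at h1 h2 h3
      rw [h1, h2] at h3
      exact sub_left_injective (sub_left_injective h3)
    · rintro ⟨⟨x, y⟩, v⟩
      refine ⟨x • e + y • f + v, ?_⟩
      have h1 : b.B (x • e + y • f + v) f = x := by
        rw [b.add_left, b.add_left, b.smul_left, b.smul_left, hff, hef, hV'f]; ring
      have h2 : b.B (x • e + y • f + v) e = y := by
        rw [b.add_left, b.add_left, b.smul_left, b.smul_left, hee, hfe, hV'e]; ring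
      refine Prod.ext (Prod.ext h1 h2) (Subtype.ext ?_)
      show x • e + y • f + v - b.B (x • e + y • f + v) f • e - b.B (x • e + y • f + v) e • f = v
      rw [h1, h2]
      abel
  let Ψ : V' × K0 b.τ → V := fun p => e + (-(tr p.1) + p.2 * δ) • f + p.1
  have hΨf : ∀ p, b.B (Ψ p) f = 1 := by
    intro p
    show b.B (e + (-(tr p.1) + p.2 * δ) • f + p.1) f = 1
    rw [b.add_left, b.add_left, b.smul_left, hff, hef, hV'f]; ring
  have hΨe : ∀ p, b.B (Ψ p) e = -(tr p.1) + p.2 * δ := by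
    intro p
    show b.B (e + (-(tr p.1) + p.2 * δ) • f + p.1) e = _
    rw [b.add_left, b.add_left, b.smul_left, hee, hfe, hV'e]; ring
  have hinj : Function.Injective Ψ := by
    rintro p q h
    have h1 : -(tr p.1) + p.2 * δ = -(tr q.1) + q.2 * δ := by
      rw [← hΨe, ← hΨe, h]
    have h2 : (p.1 : V) = q.1 := by
      have h3 : e + (-(tr p.1) + p.2 * δ) • f + p.1 = e + (-(tr q.1) + q.2 * δ) • f + q.1 := h
      rw [h1] at h3
      exact add_left_cancel h3
    have h4 : p.1 = q.1 := Subtype.ext h2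
    rw [h4] at h1
    have h5 := mul_right_cancel₀ hδ0 (add_left_cancel h1)
    exact Prod.ext h4 (Subtype.ext h5)
  refine ⟨Set.range Ψ, ?_, ?_, ?_⟩
  · rintro _ ⟨p, rfl⟩
    refine ⟨fun h => ?_, ?_⟩
    · have h1 := hΨf p
      rw [h, B_zero_left] at h1
      exact zero_ne_one h1
    · have h1 := hΨe p
      have h3 : b.B e (p.1 : V) = 0 := B_symm (hV'e p.1)
      have h4 : b.B f (p.1 : V) = 0 := B_symm (hV'f p.1)
      have h5 : b.B (Ψ p) (p.1 : V) = b.B (p.1 : V) p.1 := by
        show b.B (e + (-(tr p.1) + p.2 * δ) • f + p.1) (p.1 : V) = _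
        rw [b.add_left, b.add_left, b.smul_left, h3, h4]; ring
      have h6 : b.B (Ψ p) (Ψ p) = b.B (Ψ p) e + b.τ (-(tr p.1) + p.2 * δ) * b.B (Ψ p) f +
          b.B (Ψ p) (p.1 : V) := by
        conv_lhs => rw [show Ψ p = e + (-(tr p.1) + p.2 * δ) • f + p.1 from rfl]
        rw [b.add_right, b.add_right, b.smul_right]
      rw [h6, h1, hΨf, h5, map_add, map_mul, map_neg, hτδ]
      have h7 : b.τ ((p.2 : K0 b.τ) : K) = p.2 := p.2.2
      rw [h7]
      linear_combination -(htr p.1)
  · rintro _ ⟨p, rfl⟩ _ ⟨q, rfl⟩ l h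
    have h1 := hΨf q
    rw [h, b.smul_left, hΨf, mul_one] at h1
    rw [h, h1, one_smul]
  · have h1 : Nat.card (Set.range Ψ) = Nat.card V' * Nat.card (K0 b.τ) := by
      rw [← Nat.card_prod]
      exact Nat.card_congr (Equiv.ofInjective Ψ hinj).symm
    rw [h1, hcardV]
    ring

end Cfsg.Agent.H214.FC
end

-- part: H214/FC/C6Big
section
/-!
# S5764 [B-C6x]: extraspecial type normalizers, unitary `n = 7, n ≥ 9`, symplectic `n ≥ 16` (helper214)
-/

set_option autoImplicit false

namespace Cfsg.Agent.H214.FC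

open Cfsg.Agent.H198.FC Cfsg.Agent.H277.FC Cfsg.Agent.H706.FC Cfsg.Agent.H563.FC Cfsg.Agent.H786.FC

universe u v

section choose

variable {K : Type u} [Field K] {V : Type v} [AddCommGroup V] [Module K V]
  [Finite K] [Module.Finite K V] {S A : Subgroup (Equiv.Perm (R K V))} {r a : ℕ}

/-- choice of a vector in `X` which is not bad -/
theorem exists_good (h : C6Data S A r a) {k : ℕ} (hk : Module.finrank K V = r * k) (X : Set V)
    (hX0 : ∀ w ∈ X, w ≠ 0) (P : V → Prop) {m : ℕ} (hm : Nat.card {w : V // w ∈ X ∧ P w} ≤ m)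
    (hcard : (Module.finrank K V ^ 2 - 1) * (r * Nat.card K ^ k) + m < Nat.card X) :
    ∃ w ∈ X, (∀ y ∈ Hat A, (∃ l : K, (y : R K V) w = l • w) → Scal y) ∧ ¬ P w := by
  classical
  have hfinV : Finite V := Module.finite_of_finite K
  by_contra hcon
  push Not at hcon
  have key : ∀ w : X, (∃ y ∈ Hat A, ¬ Scal y ∧ ∃ l : K, (y : R K V) w = l • (w : V)) ∨ P w := by
    intro w
    by_cases hw : ∀ y ∈ Hat A, (∃ l : K, (y : R K V) w = l • (w : V)) → Scal y
    · exact Or.inr (hcon w w.2 hw)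
    · push Not at hw
      obtain ⟨y, h1, ⟨l, h2⟩, h3⟩ := hw
      exact Or.inl ⟨y, h1, h3, l, h2⟩
  let Φ : X → {w : V // w ≠ 0 ∧ ∃ y ∈ Hat A, ¬ Scal y ∧ ∃ l : K, (y : R K V) w = l • w} ⊕
      {w : V // w ∈ X ∧ P w} := fun w =>
    if hw : ∃ y ∈ Hat A, ¬ Scal y ∧ ∃ l : K, (y : R K V) w = l • (w : V) then Sum.inl ⟨w, hX0 w w.2, hw⟩
    else Sum.inr ⟨w, w.2, (key w).resolve_left hw⟩
  have hinj : Function.Injective Φ := by
    intro w w' h
    simp only [Φ] at h
    split_ifs at h with h1 h2 h2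
    · have h5 := Sum.inl.inj h
      rw [Subtype.mk.injEq] at h5
      exact Subtype.ext h5
    · have h5 := Sum.inr.inj h
      rw [Subtype.mk.injEq] at h5
      exact Subtype.ext h5
  have h2 := Nat.card_le_card_of_injective Φ hinj
  rw [Nat.card_sum] at h2
  have h3 := card_bad h hk
  omega

end choose

/-! ### symplectic -/

theorem pow3_ge {k : ℕ} (hk : 8 ≤ k) : 8 * k ^ 2 ≤ 3 ^ k := by
  induction k, hk using Nat.le_induction with
  | base => norm_num
  | succ k hk ih =>
    rw [pow_succ 3 k]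
    nlinarith

theorem stmtBC6S16 : StmtBC6On.{u, v} false fun n => 16 ≤ n := by
  intro K _ _ V _ _ _ b hb hbig hn S hS hsol A r a h
  have hn : 16 ≤ Module.finrank K V := hn
  have hSp : b.IsSp := hb.2 rfl
  have hfinV : Finite V := Module.finite_of_finite K
  have hnt := nontrivial_of h
  have hev := even_finrank b hSp
  have hr2 : r = 2 := by
    have h2 : (2 : ℕ) ∣ r ^ a := by rw [← h.2.2.1]; exact hev.two_dvd
    exact ((Nat.prime_dvd_prime_iff_eq Nat.prime_two h.1).1 (Nat.prime_two.dvd_of_dvd_pow h2)).symm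
  obtain ⟨k, hk⟩ := hev.two_dvd
  have hk' : Module.finrank K V = r * k := by rw [hr2]; exact hk
  -- `|K| ≥ 3`
  have hq : 3 ≤ Nat.card K := by
    by_contra hcon
    have h1 : 1 < Nat.card K := Finite.one_lt_card
    have h2 : Nat.card K = 2 := by omega
    -- a nontrivial commutator gives `-1 ≠ 1`
    have hne : ∃ f : A, f ≠ 1 := by
      by_contra h0
      push Not at h0
      have h3 : Nat.card A = 1 := by
        have : Subsingleton A := ⟨fun x y => by rw [h0 x, h0 y]⟩
        exact Nat.card_unique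
      rw [h.2.2.2.2.2.1] at h3
      have h4 := Nat.one_lt_pow (n := 2 * a) (by have := h.2.1; omega) h.1.one_lt
      omega
    obtain ⟨f, hf⟩ := hne
    obtain ⟨y, hy⟩ := h.2.2.2.2.1 f.2
    have hyH : y ∈ Hat A := by rw [mem_Hat, hy]; exact f.2
    have hys : ¬ Scal y := fun hsc => hf (Subtype.ext (by rw [← hy, cj_of_scal hsc]; rfl))
    obtain ⟨-, -, c, hc1, hcr, -⟩ := exists_conj h hyH hys
    have hc0 : c ≠ 0 := by
      rintro rfl
      rw [zero_pow h.1.ne_zero] at hcr
      exact zero_ne_one hcr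
    have := Fintype.ofFinite K
    rw [Nat.card_eq_fintype_card] at h2
    classical
    have h5 : ({0, 1, c} : Finset K).card = 3 := by
      rw [Finset.card_eq_three]
      exact ⟨0, 1, c, zero_ne_one, hc0.symm, hc1.symm, rfl⟩
    have h6 := Finset.card_le_univ ({0, 1, c} : Finset K)
    omega
  have hcardV : Nat.card V = Nat.card K ^ Module.finrank K V := Module.natCard_eq_pow_finrank
  -- the nonzero vectors
  have hX : Nat.card {w : V | w ≠ 0} = Nat.card K ^ Module.finrank K V - 1 := by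
    classical
    have := Fintype.ofFinite V
    rw [← hcardV]
    change Nat.card {w : V // w ≠ 0} = _
    rw [Nat.card_eq_fintype_card, Nat.card_eq_fintype_card, Fintype.card_subtype_compl,
      Fintype.card_subtype_eq]
  obtain ⟨w, hw0, hw, -⟩ := exists_good h hk' {w : V | w ≠ 0} (fun w hw => hw) (fun _ => False) (m := 0)
    (by simp) (by
      rw [hX, add_zero, hr2]
      have h1 := pow3_ge (k := k) (by omega)
      have h2 : 3 ^ k ≤ Nat.card K ^ k := Nat.pow_le_pow_left hq k
      have h3 : Nat.card K ^ Module.finrank K V = Nat.card K ^ k * Nat.card K ^ k := by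
        rw [hk, two_mul, pow_add]
      rw [h3, hk]
      set Q := Nat.card K ^ k with hQ
      have h4 : ((2 * k) ^ 2 - 1) * (2 * Q) + (2 * Q) = (2 * k) ^ 2 * (2 * Q) := by
        have h5 : 1 ≤ (2 * k) ^ 2 := Nat.one_le_pow _ _ (by omega)
        obtain ⟨t, ht⟩ := Nat.exists_eq_add_of_le h5
        rw [ht]
        have : 1 + t - 1 = t := by omega
        rw [this]
        ring
      have h6 : (2 * k) ^ 2 * (2 * Q) ≤ Q * Q := by
        calc (2 * k) ^ 2 * (2 * Q) = (8 * k ^ 2) * Q := by ring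
          _ ≤ Q * Q := Nat.mul_le_mul_right _ (h1.trans h2)
      have h7 : 2 ≤ Q := by
        have : 8 * k ^ 2 ≤ Q := h1.trans h2
        nlinarith
      omega)
  refine five_of_good hS h hsol hw0 (hSp.2 w) hw (fun f _ _ _ ⟨t, ht⟩ => absurd (hSp.1 t) ht) ?_
  intro c hN f hf _ hx
  exact fixB hS h (Or.inr (by omega)) hN hf hx

/-! ### unitary -/

section unitary

variable {K : Type u} [Field K] [Finite K] {V : Type v} [AddCommGroup V] [Module K V]
  [Module.Finite K V] {b : Cl K V} {S A : Subgroup (Equiv.Perm (R K V))} {r a : ℕ}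

/-- the commutators of `Hat A` have norm 1 -/
theorem norm_comm (hU : b.IsU) (hS : S ≤ RB b) (h : C6Data S A r a) {x y : (R K V)ˣ} (hx : x ∈ Hat A)
    (hy : y ∈ Hat A) {c : K} (hc : (x : R K V) * y = c • ((y : R K V) * x)) : c * b.τ c = 1 := by
  have hnt := nontrivial_of h
  -- a lift of an element of `RB b` is a similitude
  have hsim : ∀ z ∈ Hat A, ∃ μ : K, μ ≠ 0 ∧ ∀ v w, b.B ((z : R K V) v) ((z : R K V) w) = μ * b.B v w := by
    intro z hz
    have hzB : cj K V z ∈ RB b := hS (h.2.2.2.1 hz)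
    -- the adjoint of `cj z (tw)`
    obtain ⟨w₀, hw₀⟩ := exists_ne (0 : V)
    obtain ⟨v₀, hv₀⟩ := exists_right (b := b) hw₀
    have key : ∀ u u' v w, b.B v u * b.B ((z : R K V) u') ((z : R K V) w) =
        b.B u' w * b.B ((z : R K V) v) ((z : R K V) u) := by
      intro u u' v w
      let X : R K V :=
        { toFun := fun v => b.B v u • u'
          map_add' := fun v w => by rw [b.add_left, add_smul]
          map_smul' := fun a v => by rw [b.smul_left, mul_smul, RingHom.id_apply] }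
      let Y : R K V :=
        { toFun := fun v => b.τ (b.B u' v) • u
          map_add' := fun v w => by rw [b.add_right, map_add, add_smul]
          map_smul' := fun a v => by
            rw [b.smul_right, map_mul, b.invol, mul_smul, RingHom.id_apply] }
      have hXY : b.Adj X Y := by
        intro v w
        show b.B (b.B v u • u') w = b.B v (b.τ (b.B u' w) • u)
        rw [b.smul_left, b.smul_right, b.invol, mul_comm]
      have h1 := (hzB.2 X Y).1 hXY ((z : R K V) v) ((z : R K V) w)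
      rw [cj_apply, cj_apply] at h1
      have e1 : ∀ (W : R K V) (v : V), ((z : R K V) * W * ((z⁻¹ : (R K V)ˣ) : R K V)) ((z : R K V) v) =
          (z : R K V) (W v) := by
        intro W v
        rw [← Module.End.mul_apply, mul_assoc, mul_assoc, Units.inv_mul, mul_one]
        rfl
      rw [e1, e1] at h1
      have h2 : b.B ((z : R K V) (b.B v u • u')) ((z : R K V) w) =
        b.B ((z : R K V) v) ((z : R K V) (b.τ (b.B u' w) • u)) := h1
      rw [map_smul, map_smul, b.smul_left, b.smul_right, b.invol] at h2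
      exact h2
    refine ⟨b.B ((z : R K V) v₀) ((z : R K V) w₀) / b.B v₀ w₀, ?_, fun v w => ?_⟩
    · intro h0
      have h1 : b.B ((z : R K V) v₀) ((z : R K V) w₀) = 0 := by
        rcases div_eq_zero_iff.1 h0 with h2 | h2
        · exact h2
        · exact absurd h2 hv₀
      have h2 : ∀ u' w, b.B ((z : R K V) u') ((z : R K V) w) = 0 := by
        intro u' w
        have h3 := key w₀ u' v₀ w
        rw [h1, mul_zero] at h3
        rcases mul_eq_zero.1 h3 with h4 | h4
        · exact absurd h4 hv₀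
        · exact h4
      apply hw₀
      have h3 : (z : R K V) w₀ = 0 := by
        apply nondeg_right (b := b)
        intro v
        have h4 := h2 (((z⁻¹ : (R K V)ˣ) : R K V) v) w₀
        rwa [← Module.End.mul_apply, Units.mul_inv, Module.End.one_apply] at h4
      have h4 : ((z⁻¹ : (R K V)ˣ) : R K V) ((z : R K V) w₀) = w₀ := by
        rw [← Module.End.mul_apply, Units.inv_mul, Module.End.one_apply]
      rw [← h4, h3, map_zero]
    · have h1 := key w₀ v v₀ w
      field_simp
      rw [mul_comm] at h1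
      rw [h1]
      ring
  obtain ⟨μ, hμ0, hμ⟩ := hsim x hx
  obtain ⟨ν, hν0, hν⟩ := hsim y hy
  obtain ⟨w₀, hw₀⟩ := exists_ne (0 : V)
  obtain ⟨v₀, hv₀⟩ := exists_right (b := b) hw₀
  have h1 : b.B (((x : R K V) * y) v₀) (((x : R K V) * y) w₀) = μ * (ν * b.B v₀ w₀) := by
    rw [Module.End.mul_apply, Module.End.mul_apply, hμ, hν]
  rw [hc, LinearMap.smul_apply, LinearMap.smul_apply, b.smul_left, b.smul_right, Module.End.mul_apply,
    Module.End.mul_apply, hν, hμ] at h1
  have h2 : (c * b.τ c - 1) * (μ * ν * b.B v₀ w₀) = 0 := by linear_combination h1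
  rcases mul_eq_zero.1 h2 with h3 | h3
  · exact sub_eq_zero.1 h3
  · exact absurd h3 (mul_ne_zero (mul_ne_zero hμ0 hν0) hv₀)

/-- `r` odd: no element of `C_S(A)` induces `τ` on `K` -/
theorem two_of_tau (hU : b.IsU) (hS : S ≤ RB b) (h : C6Data S A r a) {f : Equiv.Perm (R K V)} (hf : f ∈ RP K V)
    (hfc : ∀ c ∈ A, f * c = c * f) (hs : HasSig f b.τ) : r = 2 := by
  have hnt := nontrivial_of h
  obtain ⟨g, hadd, hsm, hg⟩ := hs.semi hf
  -- a noncentral element
  have hne : ∃ f : A, f ≠ 1 := by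
    by_contra h0
    push Not at h0
    have h3 : Nat.card A = 1 := by
      have : Subsingleton A := ⟨fun x y => by rw [h0 x, h0 y]⟩
      exact Nat.card_unique
    rw [h.2.2.2.2.2.1] at h3
    have h4 := Nat.one_lt_pow (n := 2 * a) (by have := h.2.1; omega) h.1.one_lt
    omega
  obtain ⟨f', hf'⟩ := hne
  obtain ⟨y, hy⟩ := h.2.2.2.2.1 f'.2
  have hyH : y ∈ Hat A := by rw [mem_Hat, hy]; exact f'.2
  have hys : ¬ Scal y := fun hsc => hf' (Subtype.ext (by rw [← hy, cj_of_scal hsc]; rfl))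
  obtain ⟨z, hzH, c, hc1, hcr, hc⟩ := exists_conj h hyH hys
  have hn := norm_comm hU hS h hyH hzH hc
  -- `f` multiplies the elements of `Hat A` by scalars
  have hfy : ∀ x ∈ Hat A, ∃ d : K, d ≠ 0 ∧ f x = d • (x : R K V) := by
    intro x hx
    have h1 := hfc _ hx
    rw [f_cj hf x] at h1
    have h2 : cj K V (fu hf x) = cj K V x := mul_right_cancel h1
    obtain ⟨d, hd0, hd⟩ := cj_eq h2
    exact ⟨d, hd0, hd⟩
  obtain ⟨d, hd0, hd⟩ := hfy y hyH
  obtain ⟨d', hd'0, hd'⟩ := hfy z hzH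
  have h1 := congrArg f hc
  rw [hf.2, hs.smul hf, hf.2, hd, hd', smul_mul_smul_comm, smul_mul_smul_comm, hc, smul_smul, smul_smul] at h1
  have h2 : (z : R K V) * y ≠ 0 := by rw [← Units.val_mul]; exact Units.ne_zero _
  have h3 : d * d' * c = b.τ c * (d' * d) := smul_left_injective K h2 h1
  have h4 : c = b.τ c := by
    have h5 : (d * d') * (c - b.τ c) = 0 := by linear_combination h3
    rcases mul_eq_zero.1 h5 with h6 | h6
    · exact absurd h6 (mul_ne_zero hd0 hd'0)
    · exact sub_eq_zero.1 h6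
  rw [← h4] at hn
  -- `c² = 1`, `c ≠ 1`, `c ^ r = 1`
  have h5 : c ^ 2 = 1 := by rw [sq]; exact hn
  have h6 : orderOf c ∣ 2 := orderOf_dvd_of_pow_eq_one h5
  have h7 : orderOf c ∣ r := orderOf_dvd_of_pow_eq_one hcr
  have h8 : orderOf c ≠ 1 := fun h9 => hc1 (orderOf_eq_one_iff.1 h9)
  rcases (Nat.dvd_prime h.1).1 h7 with h9 | h9
  · exact absurd h9 h8
  · rw [h9] at h6
    rcases (Nat.dvd_prime Nat.prime_two).1 h6 with h10 | h10
    · exact absurd h10 h.1.ne_one
    · exact h10

/-- **(h2)** : the number of points fixed by an element with field automorphism `τ` -/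
theorem card_tau (hU : b.IsU) (hS : S ≤ RB b) (h : C6Data S A r a) {X : Set V} (hX0 : ∀ w ∈ X, w ≠ 0)
    (hX : ∀ w ∈ X, ∀ w' ∈ X, ∀ l : K, w' = l • w → w' = w) {m : ℕ} (hm : Nat.card V ≤ m * m) :
    Nat.card {w : V // w ∈ X ∧ ∃ f ∈ S, (∀ c ∈ A, f * c = c * f) ∧ HasSig f b.τ ∧
      ∃ k : K, f (tw b 1 w) = k • tw b 1 w} ≤ Nat.card A * m := by
  classical
  have hnt := nontrivial_of h
  have hfinV : Finite V := Module.finite_of_finite K
  have hfinR := finite_R (K := K) (V := V)
  let T := {f : Equiv.Perm (R K V) // f ∈ RP K V ∧ HasSig f b.τ ∧ ∀ c ∈ A, f * c = c * f}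
  have := Fintype.ofFinite T
  have hT : Fintype.card T ≤ Nat.card A := by
    rw [← Nat.card_eq_fintype_card]
    exact card_sig_le h b.τ
  have hsemi : ∀ f : T, ∃ g : Equiv.Perm V, (∀ v w, g (v + w) = g v + g w) ∧
      (∀ (a : K) (v : V), g (a • v) = b.τ a • g v) ∧ ∀ (X : R K V) (v : V), f.1 X (g v) = g (X v) :=
    fun f => f.2.2.1.semi f.2.1
  choose g hadd hsm hg using hsemi
  have key : ∀ w : {w : V // w ∈ X ∧ ∃ f ∈ S, (∀ c ∈ A, f * c = c * f) ∧ HasSig f b.τ ∧
      ∃ k : K, f (tw b 1 w) = k • tw b 1 w}, ∃ f : T, (w : V) ∈ X ∧ ∃ l : K, g f w = l • (w : V) := by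
    rintro ⟨w, hwX, f, hf, hfc, hfs, k, hk⟩
    refine ⟨⟨f, (hS hf).1, hfs, hfc⟩, hwX, ?_⟩
    obtain ⟨v, hv⟩ := exists_right (b := b) (hX0 w hwX)
    have h1 := hg ⟨f, (hS hf).1, hfs, hfc⟩ (tw b 1 w) v
    rw [hk, LinearMap.smul_apply, tw_apply, tw_apply, one_mul, one_mul, smul_smul, hsm] at h1
    refine ⟨(b.τ (b.B v w))⁻¹ * (k * b.B (g ⟨f, (hS hf).1, hfs, hfc⟩ v) w), ?_⟩
    rw [mul_smul, h1, smul_smul, inv_mul_cancel₀ (by simpa using hv), one_smul]
  choose F hF using key
  let Φ : {w : V // w ∈ X ∧ ∃ f ∈ S, (∀ c ∈ A, f * c = c * f) ∧ HasSig f b.τ ∧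
      ∃ k : K, f (tw b 1 w) = k • tw b 1 w} → Σ f : T, {w : V // w ∈ X ∧ ∃ l : K, g f w = l • w} :=
    fun w => ⟨F w, ⟨w, hF w⟩⟩
  have hΦ : ∀ w, (((Φ w).2 : {w' : V // w' ∈ X ∧ ∃ l : K, g (Φ w).1 w' = l • w'}) : V) = w := fun _ => rfl
  have hinj : Function.Injective Φ := by
    intro w w' hww
    apply Subtype.ext
    rw [← hΦ w, ← hΦ w', hww]
  have h2 := Nat.card_le_card_of_injective Φ hinj
  rw [Nat.card_sigma] at h2
  obtain ⟨t, ht⟩ := hU.1
  refine h2.trans ((Finset.sum_le_card_nsmul Finset.univ _ m fun f _ =>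
    card_pts_le (hadd f) (hsm f) ht hX0 hX hm).trans ?_)
  rw [Finset.card_univ, smul_eq_mul]
  exact Nat.mul_le_mul_right _ hT

end unitary

/-! ### numerical lemmas -/

theorem pow2_cube {n : ℕ} (hn : 10 ≤ n) : n ^ 3 ≤ 2 ^ n := by
  induction n, hn using Nat.le_induction with
  | base => norm_num
  | succ n hn ih =>
    rw [pow_succ 2 n]
    have h1 : 10 * n ^ 2 ≤ n ^ 3 := by rw [pow_succ n 2, mul_comm]; exact Nat.mul_le_mul_left _ hn
    nlinarith

theorem pow2_sq {n : ℕ} (hn : 13 ≤ n) : 3 * (n + 3) ^ 2 < 2 ^ n := by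
  induction n, hn using Nat.le_induction with
  | base => norm_num
  | succ n hn ih =>
    rw [pow_succ 2 n]
    nlinarith

theorem stmtBC6U9 : StmtBC6On.{u, v} true fun n => n = 7 ∨ 9 ≤ n := by
  intro K _ _ V _ _ _ b hb hbig hn S hS hsol A r a h
  have hn : Module.finrank K V = 7 ∨ 9 ≤ Module.finrank K V := hn
  have hU : b.IsU := hb.1 rfl
  have hfinV : Finite V := Module.finite_of_finite K
  have hnt := nontrivial_of h
  obtain ⟨ε, hε⟩ := hU.1
  obtain ⟨X, hX0, hX1, hXc⟩ := exists_family' hU (by omega)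
  set n := Module.finrank K V with hndef
  set q := Nat.card (K0 b.τ) with hq
  have hKq : Nat.card K = q ^ 2 := card_K b.invol hε
  have hq2 : 2 ≤ q := Finite.one_lt_card
  have hV : Nat.card V = q ^ (2 * n) := by
    rw [Module.natCard_eq_pow_finrank (K := K), hKq, ← pow_mul]
  have hXcard : Nat.card X = q ^ (2 * n - 3) := by
    rw [hKq, hV, ← pow_mul] at hXc
    have h1 : q ^ (2 * n) * q = q ^ (2 * n - 3) * q ^ (2 * 2) := by
      rw [← pow_succ, ← pow_add]
      congr 1
      omega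
    rw [h1] at hXc
    exact Nat.eq_of_mul_eq_mul_right (pow_pos (by omega) _) hXc
  -- `n = r k`
  obtain ⟨k, hk⟩ : ∃ k, n = r * k := by
    refine ⟨r ^ (a - 1), ?_⟩
    rw [hndef, h.2.2.1, ← pow_succ']
    congr 1
    have := h.2.1
    omega
  have hA : Nat.card A = n ^ 2 := by
    rw [h.2.2.2.2.2.1, hndef, h.2.2.1, ← pow_mul, mul_comm]
  let P : V → Prop := fun w => ∃ f ∈ S, (∀ c ∈ A, f * c = c * f) ∧ HasSig f b.τ ∧
      ∃ k : K, f (tw b 1 w) = k • tw b 1 w
  have hgood : ∃ w ∈ X, (∀ y ∈ Hat A, (∃ l : K, (y : R K V) w = l • w) → Scal y) ∧ ¬ P w := by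
    by_cases hr2 : r = 2
    · have hP := card_tau hU hS h (fun w hw => (hX0 w hw).1) hX1 (m := q ^ n)
        (by rw [hV, ← pow_add, two_mul])
      refine exists_good h hk X (fun w hw => (hX0 w hw).1) P hP ?_
      rw [hXcard, hKq, hA, hr2, ← pow_mul, ← hndef]
      have hn2 : n = 2 * k := by rw [hk, hr2]
      -- `n ≥ 16`
      have hn16 : 16 ≤ n := by
        have h1 : n = 2 ^ a := by rw [hndef, h.2.2.1, hr2]
        have h2 : 4 ≤ a := by
          by_contra hcon
          have h3 : a ≤ 3 := by omega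
          have h4 : n ≤ 2 ^ 3 := by rw [h1]; exact Nat.pow_le_pow_right (by norm_num) h3
          rcases hn with h5 | h5
          · rw [h5] at hn2
            omega
          · omega
        rw [h1]
        calc 16 = 2 ^ 4 := by norm_num
          _ ≤ 2 ^ a := Nat.pow_le_pow_right (by norm_num) h2
      have h1 := pow2_sq (n := n - 3) (by omega)
      have e1 : n - 3 + 3 = n := by omega
      rw [e1] at h1
      have h2 : 2 ^ (n - 3) ≤ q ^ (n - 3) := Nat.pow_le_pow_left hq2 _
      have h3 : q ^ (2 * n - 3) = q ^ (n - 3) * q ^ n := by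
        rw [← pow_add]
        congr 1
        omega
      rw [h3, ← hn2]
      have h4 : 0 < q ^ n := pow_pos (by omega) _
      calc (n ^ 2 - 1) * (2 * q ^ n) + n ^ 2 * q ^ n ≤ n ^ 2 * (2 * q ^ n) + n ^ 2 * q ^ n :=
            Nat.add_le_add_right (Nat.mul_le_mul_right _ (Nat.sub_le _ _)) _
        _ = 3 * n ^ 2 * q ^ n := by ring
        _ < q ^ (n - 3) * q ^ n := Nat.mul_lt_mul_of_pos_right (h1.trans_le h2) h4
    · have hP : Nat.card {w : V // w ∈ X ∧ P w} ≤ 0 := by
        have : IsEmpty {w : V // w ∈ X ∧ P w} := ⟨by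
          rintro ⟨w, -, f, hf, hfc, hfs, -⟩
          exact hr2 (two_of_tau hU hS h (hS hf).1 hfc hfs)⟩
        rw [Nat.card_of_isEmpty]
      refine exists_good h hk X (fun w hw => (hX0 w hw).1) P hP ?_
      rw [add_zero, hXcard, hKq, ← pow_mul, ← hndef]
      have hr3 : 3 ≤ r := by
        have := h.1.two_le
        omega
      have hk1 : 1 ≤ k := by
        rcases Nat.eq_zero_or_pos k with h0 | h0
        · rw [h0, mul_zero] at hk; omega
        · exact h0
      have h3k : 3 * k ≤ n := by rw [hk]; exact Nat.mul_le_mul_right _ hr3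
      have hrn : r ≤ n := by rw [hk]; exact Nat.le_mul_of_pos_right _ hk1
      -- the exponent
      obtain ⟨e, he⟩ : ∃ e, 2 * n - 3 = e + 2 * k := ⟨2 * n - 3 - 2 * k, by omega⟩
      have hmain : (n ^ 2 - 1) * r < q ^ e := by
        have h9 : ∀ e', e' ≤ e → 2 ^ e' ≤ q ^ e := fun e' h' =>
          (Nat.pow_le_pow_right (by norm_num) h').trans (Nat.pow_le_pow_left hq2 _)
        rcases hn with h7 | h9'
        · -- `n = 7`
          have hr7 : r = 7 := by
            have h1 : r ∣ 7 := ⟨k, by rw [← hk, h7]⟩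
            rcases (Nat.dvd_prime (by norm_num : Nat.Prime 7)).1 h1 with h2 | h2
            · exact absurd h2 h.1.ne_one
            · exact h2
          have hk7 : k = 1 := by
            rw [h7, hr7] at hk
            omega
          have h1 := h9 9 (by omega)
          rw [h7, hr7]
          calc (7 ^ 2 - 1) * 7 < 2 ^ 9 := by norm_num
            _ ≤ q ^ e := h1
        · rcases Nat.lt_or_ge n 10 with h10 | h10
          · -- `n = 9`
            have hn9 : n = 9 := by omega
            have hr' : r = 3 := by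
              have h1 : r ∣ 9 := ⟨k, by rw [← hk, hn9]⟩
              have h2 : r ∣ 3 ^ 2 := h1
              exact (Nat.prime_dvd_prime_iff_eq h.1 Nat.prime_three).1 (h.1.dvd_of_dvd_pow h2)
            have hk3 : k = 3 := by
              rw [hn9, hr'] at hk
              omega
            have h1 := h9 9 (by omega)
            rw [hn9, hr']
            calc (9 ^ 2 - 1) * 3 < 2 ^ 9 := by norm_num
              _ ≤ q ^ e := h1
          · have h1 := h9 n (by omega)
            have h2 := pow2_cube h10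
            have h3 : (n ^ 2 - 1) * r ≤ (n ^ 2 - 1) * n := Nat.mul_le_mul_left _ hrn
            have h4 : (n ^ 2 - 1) * n < n ^ 3 := by
              have h5 : 1 ≤ n ^ 2 := Nat.one_le_pow _ _ (by omega)
              calc (n ^ 2 - 1) * n < n ^ 2 * n := Nat.mul_lt_mul_of_pos_right (by omega) (by omega)
                _ = n ^ 3 := by ring
            omega
      rw [he, pow_add, ← mul_assoc]
      exact Nat.mul_lt_mul_of_pos_right hmain (pow_pos (by omega) _)
  obtain ⟨w, hwX, hw, hwP⟩ := hgood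
  refine five_of_good hS h hsol (hX0 w hwX).1 (hX0 w hwX).2 hw ?_ ?_
  · intro f hf hfc hfs _ k hk
    exact hwP ⟨f, hf, hfc, hfs, k, hk⟩
  · intro c hN f hf _ hx
    exact fixB hS h hn hN hf hx

end Cfsg.Agent.H214.FC
end

-- part: H324/FC/Mat
section
/-!
# S5764, [B-C2U1]: orthonormal frames of unitary spaces, matrix part (helper324)

Compatibility of the monomial data `(π, σ, t)` of a frame stabilizer with unitary matrices; the matrices used are
`E (1 + c J) E⁻¹`, `J` the matrix of a partial partition into blocks of size `m`, `E` diagonal of norm one.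
-/

set_option autoImplicit false

namespace Cfsg.Agent.H324.FC

universe u

open Finset

variable {K : Type u} [Field K] {n : ℕ}

/-- compatibility of the data of a semilinear monomial map with the matrix `x` -/
def Cmp (τ : K ≃+* K) (x : Matrix (Fin n) (Fin n) K) (π : Equiv.Perm (Fin n)) (σ : K →+* K)
    (t : Fin n → Fin n → K) : Prop :=
  ∃ π' : Equiv.Perm (Fin n), ∀ j a b, t a b * σ (τ (x j a) * x j b) = τ (x (π' j) (π a)) * x (π' j) (π b)

/-- the coefficients of a monomial map -/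
structure Mon (t : Fin n → Fin n → K) : Prop where
  ne : ∀ a b, t a b ≠ 0
  mul : ∀ a b c, t a b * t b c = t a c

theorem Mon.self {t : Fin n → Fin n → K} (h : Mon t) (a : Fin n) : t a a = 1 := by
  have h1 := h.mul a a a
  have h2 := h.ne a a
  field_simp at h1
  exact h1

theorem Mon.symm {t : Fin n → Fin n → K} (h : Mon t) {a b : Fin n} (hab : t a b = 1) : t b a = 1 := by
  have h1 := h.mul a b a
  rw [hab, h.self, one_mul] at h1
  exact h1

theorem Mon.trans {t : Fin n → Fin n → K} (h : Mon t) {a b c : Fin n} (hab : t a b = 1) (hbc : t b c = 1) :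
    t a c = 1 := by
  have h1 := h.mul a b c
  rw [hab, hbc, one_mul] at h1
  exact h1.symm

/-- unitary matrices -/
def Uni (τ : K ≃+* K) (x : Matrix (Fin n) (Fin n) K) : Prop :=
  ∀ i j, ∑ k, x i k * τ (x j k) = if i = j then 1 else 0

/-- columns `a`, `b` of `x` have a common row with non-zero entries -/
def Rel (x : Matrix (Fin n) (Fin n) K) (a b : Fin n) : Prop := ∃ k, x k a ≠ 0 ∧ x k b ≠ 0

theorem Cmp.rel {τ : K ≃+* K} {x : Matrix (Fin n) (Fin n) K} {π : Equiv.Perm (Fin n)} {σ : K →+* K}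
    {t : Fin n → Fin n → K} (h : Cmp τ x π σ t) (ht : Mon t) (a b : Fin n) :
    Rel x a b ↔ Rel x (π a) (π b) := by
  obtain ⟨π', h⟩ := h
  have key : ∀ k, (x k a ≠ 0 ∧ x k b ≠ 0) ↔ (x (π' k) (π a) ≠ 0 ∧ x (π' k) (π b) ≠ 0) := by
    intro k
    have h1 := h k a b
    constructor
    · rintro ⟨ha, hb⟩
      have h2 : t a b * σ (τ (x k a) * x k b) ≠ 0 := by
        refine mul_ne_zero (ht.ne a b) ?_
        rw [Ne, map_eq_zero]
        exact mul_ne_zero (by rw [Ne, map_eq_zero]; exact ha) hb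
      rw [h1] at h2
      refine ⟨fun h3 => h2 (by rw [h3]; simp), fun h3 => h2 (by rw [h3]; simp)⟩
    · rintro ⟨ha, hb⟩
      have h2 : τ (x (π' k) (π a)) * x (π' k) (π b) ≠ 0 :=
        mul_ne_zero (by rw [Ne, map_eq_zero]; exact ha) hb
      rw [← h1] at h2
      refine ⟨fun h3 => h2 (by rw [h3]; simp), fun h3 => h2 (by rw [h3]; simp)⟩
  constructor
  · rintro ⟨k, hk⟩
    exact ⟨π' k, (key k).1 hk⟩
  · rintro ⟨k, hk⟩
    refine ⟨π'.symm k, (key _).2 ?_⟩
    rw [Equiv.apply_symm_apply]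
    exact hk

/-- partial partition into blocks of size `m` -/
structure Part (Q : Fin n → Fin n → Prop) (m : ℕ) : Prop where
  symm : ∀ i j, Q i j → Q j i
  trans : ∀ i j k, Q i j → Q j k → Q i k
  card : ∀ i, Q i i → Nat.card {k // Q i k} = m

open Classical in
/-- `E (1 + c J) E⁻¹` -/
noncomputable def blk (c : K) (Q : Fin n → Fin n → Prop) (E : Fin n → K) : Matrix (Fin n) (Fin n) K :=
  fun i j => E i * ((if i = j then 1 else 0) + (if Q i j then c else 0)) * (E j)⁻¹

open Classical in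
theorem blk_diag {c : K} {Q : Fin n → Fin n → Prop} {E : Fin n → K} (hE : ∀ i, E i ≠ 0) {i : Fin n} (h : Q i i) :
    blk c Q E i i = 1 + c := by
  unfold blk
  rw [if_pos rfl, if_pos h]
  field_simp [hE i]

open Classical in
theorem blk_off {c : K} {Q : Fin n → Fin n → Prop} {E : Fin n → K} {i j : Fin n} (hij : i ≠ j) (h : Q i j) :
    blk c Q E i j = E i * c * (E j)⁻¹ := by
  unfold blk
  rw [if_neg hij, if_pos h, zero_add]

open Classical in
theorem blk_zero {c : K} {Q : Fin n → Fin n → Prop} {E : Fin n → K} {i j : Fin n} (hij : i ≠ j) (h : ¬ Q i j) :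
    blk c Q E i j = 0 := by
  unfold blk
  rw [if_neg hij, if_neg h, zero_add, mul_zero, zero_mul]

theorem blk_ne {c : K} {Q : Fin n → Fin n → Prop} {E : Fin n → K} {i j : Fin n} (h : blk c Q E i j ≠ 0) :
    i = j ∨ Q i j := by
  by_contra h1
  push Not at h1
  exact h (blk_zero h1.1 h1.2)

open Classical in
theorem uni_blk {τ : K ≃+* K} {Q : Fin n → Fin n → Prop} {m : ℕ} (hQ : Part Q m) {c : K}
    (hc : c + τ c + m * (c * τ c) = 0) {E : Fin n → K} (hE : ∀ i, E i * τ (E i) = 1) : Uni τ (blk c Q E) := by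
  intro i j
  have hE0 : ∀ i, E i ≠ 0 := fun i h => by
    have := hE i
    rw [h, zero_mul] at this
    exact zero_ne_one this
  have h1 : ∀ k, blk c Q E i k * τ (blk c Q E j k) =
      E i * τ (E j) * ((if i = k then 1 else 0) * (if j = k then 1 else 0) +
        (if i = k then 1 else 0) * (if Q j k then τ c else 0) + (if j = k then 1 else 0) * (if Q i k then c else 0) +
        (if Q i k then c else 0) * (if Q j k then τ c else 0)) := by
    intro k
    have h2 : (E k)⁻¹ * (τ (E k))⁻¹ = 1 := by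
      rw [← mul_inv, hE k, inv_one]
    have h3 : τ ((if j = k then (1 : K) else 0) + (if Q j k then c else 0)) =
        (if j = k then (1 : K) else 0) + (if Q j k then τ c else 0) := by
      rw [map_add]
      congr 1
      · split_ifs <;> simp
      · split_ifs <;> simp
    have h4 : blk c Q E i k * τ (blk c Q E j k) = E i * τ (E j) * ((E k)⁻¹ * (τ (E k))⁻¹) *
        (((if i = k then (1 : K) else 0) + (if Q i k then c else 0)) *
        ((if j = k then (1 : K) else 0) + (if Q j k then τ c else 0))) := by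
      unfold blk
      rw [map_mul, map_mul, h3, map_inv₀]
      ring
    rw [h4, h2]
    ring
  rw [Finset.sum_congr rfl fun k _ => h1 k, ← Finset.mul_sum, Finset.sum_add_distrib, Finset.sum_add_distrib,
    Finset.sum_add_distrib]
  have e1 : ∑ k, (if i = k then (1 : K) else 0) * (if j = k then 1 else 0) = if i = j then 1 else 0 := by
    rw [Finset.sum_eq_single i]
    · by_cases h : i = j
      · simp [h]
      · simp [h, Ne.symm h]
    · intro b _ hb
      rw [if_neg (Ne.symm hb), zero_mul]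
    · intro h
      exact absurd (Finset.mem_univ i) h
  have e2 : ∑ k, (if i = k then (1 : K) else 0) * (if Q j k then τ c else 0) = if Q j i then τ c else 0 := by
    rw [Finset.sum_eq_single i]
    · simp
    · intro b _ hb
      rw [if_neg (Ne.symm hb), zero_mul]
    · intro h
      exact absurd (Finset.mem_univ i) h
  have e3 : ∑ k, (if j = k then (1 : K) else 0) * (if Q i k then c else 0) = if Q i j then c else 0 := by
    rw [Finset.sum_eq_single j]
    · simp
    · intro b _ hb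
      rw [if_neg (Ne.symm hb), zero_mul]
    · intro h
      exact absurd (Finset.mem_univ j) h
  have e4 : ∑ k, (if Q i k then c else 0) * (if Q j k then τ c else 0) =
      if Q i j then (m : K) * (c * τ c) else 0 := by
    by_cases h : Q i j
    · rw [if_pos h]
      have h5 : ∀ k, (if Q i k then c else 0) * (if Q j k then τ c else 0) = if Q i k then c * τ c else 0 := by
        intro k
        by_cases hk : Q i k
        · rw [if_pos hk, if_pos (hQ.trans j i k (hQ.symm _ _ h) hk), if_pos hk]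
        · rw [if_neg hk, if_neg hk, zero_mul]
      rw [Finset.sum_congr rfl fun k _ => h5 k, ← Finset.sum_filter, Finset.sum_const, nsmul_eq_mul]
      congr 2
      rw [← hQ.card i (hQ.trans i j i h (hQ.symm _ _ h)), Nat.card_eq_fintype_card, Fintype.card_subtype]
    · rw [if_neg h]
      refine Finset.sum_eq_zero fun k _ => ?_
      by_cases hk : Q i k
      · rw [if_neg (fun h6 => h (hQ.trans i k j hk (hQ.symm _ _ h6))), mul_zero]
      · rw [if_neg hk, zero_mul]
  rw [e1, e2, e3, e4]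
  by_cases hij : i = j
  · subst hij
    rw [hE i, one_mul, if_pos rfl]
    by_cases h : Q i i
    · rw [if_pos h, if_pos h, if_pos h, add_assoc, add_assoc]
      have : τ c + (c + (m : K) * (c * τ c)) = 0 := by linear_combination hc
      rw [this, add_zero]
    · rw [if_neg h, if_neg h, if_neg h]
      simp
  · rw [if_neg hij]
    by_cases h : Q i j
    · rw [if_pos h, if_pos h, if_pos (hQ.symm _ _ h)]
      have : (0 : K) + τ c + c + (m : K) * (c * τ c) = 0 := by linear_combination hc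
      rw [this, mul_zero]
    · rw [if_neg h, if_neg h, if_neg (fun h' => h (hQ.symm _ _ h'))]
      simp

/-- the relation of `blk`, when the diagonal entries are non-zero -/
theorem rel_blk {Q : Fin n → Fin n → Prop} {m : ℕ} (hQ : Part Q m) {c : K} (hc : c ≠ 0) (hc1 : 1 + c ≠ 0)
    {E : Fin n → K} (hE : ∀ i, E i ≠ 0) {a b : Fin n} (hab : a ≠ b) : Rel (blk c Q E) a b ↔ Q a b := by
  constructor
  · rintro ⟨k, h1, h2⟩
    rcases blk_ne h1 with rfl | h1
    · rcases blk_ne h2 with rfl | h2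
      · exact absurd rfl hab
      · exact h2
    · rcases blk_ne h2 with rfl | h2
      · exact hQ.symm _ _ h1
      · exact hQ.trans _ _ _ (hQ.symm _ _ h1) h2
  · intro h
    refine ⟨a, ?_, ?_⟩
    · rw [blk_diag hE (hQ.trans _ _ _ h (hQ.symm _ _ h))]
      exact hc1
    · rw [blk_off hab h]
      exact mul_ne_zero (mul_ne_zero (hE a) hc) (inv_ne_zero (hE b))

/-- a third element of a block -/
theorem Part.third {Q : Fin n → Fin n → Prop} {m : ℕ} (hQ : Part Q m) (hm : 3 ≤ m) {a b : Fin n} (h : Q a b) :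
    ∃ l, Q a l ∧ l ≠ a ∧ l ≠ b := by
  classical
  have haa : Q a a := hQ.trans _ _ _ h (hQ.symm _ _ h)
  have h1 := hQ.card a haa
  by_contra h2
  push Not at h2
  have h3 : ∀ l : {k // Q a k}, l = ⟨a, haa⟩ ∨ l = ⟨b, h⟩ := by
    rintro ⟨l, hl⟩
    by_cases hla : l = a
    · left
      exact Subtype.ext hla
    · right
      exact Subtype.ext (h2 l hl hla)
  have h4 : Nat.card {k // Q a k} ≤ 2 := by
    rw [Nat.card_eq_fintype_card, ← Finset.card_univ]
    refine le_trans (Finset.card_le_card (t := {⟨a, haa⟩, ⟨b, h⟩}) ?_) Finset.card_le_two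
    intro l _
    rw [Finset.mem_insert, Finset.mem_singleton]
    exact h3 l
  omega

end Cfsg.Agent.H324.FC
end

-- part: H324/FC/Blocks
section
/-!
# S5764, [B-C2U1]: block lemmas (helper324)
-/

set_option autoImplicit false

namespace Cfsg.Agent.H324.FC

universe u

variable {K : Type u} [Field K] {n : ℕ}

/-- the relation of `blk`, blocks of size at least 3 -/
theorem rel_blk' {Q : Fin n → Fin n → Prop} {m : ℕ} (hQ : Part Q m) (hm : 3 ≤ m) {c : K} (hc : c ≠ 0)
    {E : Fin n → K} (hE : ∀ i, E i ≠ 0) {a b : Fin n} (hab : a ≠ b) : Rel (blk c Q E) a b ↔ Q a b := by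
  constructor
  · rintro ⟨k, h1, h2⟩
    rcases blk_ne h1 with rfl | h1
    · rcases blk_ne h2 with rfl | h2
      · exact absurd rfl hab
      · exact h2
    · rcases blk_ne h2 with rfl | h2
      · exact hQ.symm _ _ h1
      · exact hQ.trans _ _ _ (hQ.symm _ _ h1) h2
  · intro h
    obtain ⟨l, h1, h2, h3⟩ := hQ.third hm h
    refine ⟨l, ?_, ?_⟩
    · rw [blk_off h2 (hQ.symm _ _ h1)]
      exact mul_ne_zero (mul_ne_zero (hE l) hc) (inv_ne_zero (hE a))
    · rw [blk_off h3 (hQ.trans _ _ _ (hQ.symm _ _ h1) h)]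
      exact mul_ne_zero (mul_ne_zero (hE l) hc) (inv_ne_zero (hE b))

theorem rel_perm {τ : K ≃+* K} {π : Equiv.Perm (Fin n)} {σ : K →+* K} {t : Fin n → Fin n → K} (ht : Mon t)
    {Q : Fin n → Fin n → Prop} {m : ℕ} (hQ : Part Q m) (hm : 3 ≤ m) {c : K} (hc : c ≠ 0)
    {E : Fin n → K} (hE : ∀ i, E i ≠ 0) (h : Cmp τ (blk c Q E) π σ t) {a b : Fin n} (hab : a ≠ b) :
    Q a b ↔ Q (π a) (π b) := by
  rw [← rel_blk' hQ hm hc hE hab, ← rel_blk' hQ hm hc hE (fun h' => hab (π.injective h'))]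
  exact h.rel ht a b

theorem blk3 {τ : K ≃+* K} {π : Equiv.Perm (Fin n)} {σ : K →+* K} {t : Fin n → Fin n → K} (ht : Mon t)
    {Q : Fin n → Fin n → Prop} (hQ : Part Q 3) {c : K} (hc : c ≠ 0) (hc1 : 1 + c ≠ 0)
    (hN : τ (1 + c) * (1 + c) ≠ τ c * c) {E : Fin n → K} (hE : ∀ i, E i * τ (E i) = 1)
    (h : Cmp τ (blk c Q E) π σ t) {a b : Fin n} (hab : a ≠ b) (hQab : Q a b) :
    t a b * σ (E a * (E b)⁻¹) = E (π a) * (E (π b))⁻¹ := by
  have hE0 : ∀ i, E i ≠ 0 := fun i h => by
    have := hE i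
    rw [h, zero_mul] at this
    exact zero_ne_one this
  have hEi : ∀ i, (τ (E i))⁻¹ = E i := fun i => (eq_inv_of_mul_eq_one_left (hE i)).symm
  have hτ0 : ∀ {x : K}, x ≠ 0 → τ x ≠ 0 := fun hx => by
    rw [Ne, map_eq_zero]
    exact hx
  obtain ⟨π', h⟩ := h
  set A := τ (1 + c) * (1 + c) with hA
  set C := τ c * c with hC
  have hA0 : A ≠ 0 := mul_ne_zero (hτ0 hc1) hc1
  have hC0 : C ≠ 0 := mul_ne_zero (hτ0 hc) hc
  -- norms of the entries
  have nd : ∀ i, Q i i → τ (blk c Q E i i) * blk c Q E i i = A := fun i hi => by rw [blk_diag hE0 hi]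
  have no2 : ∀ i j k, i ≠ j → i ≠ k → Q i j → Q i k →
      τ (blk c Q E i j) * blk c Q E i k = C * (E j * (E k)⁻¹) := fun i j k hij hik h1 h2 => by
    rw [blk_off hij h1, blk_off hik h2, map_mul, map_mul, map_inv₀, hEi j]
    have h3 : τ (E i) * E i = 1 := by rw [mul_comm]; exact hE i
    calc τ (E i) * τ c * E j * (E i * c * (E k)⁻¹) = (τ (E i) * E i) * (τ c * c) * (E j * (E k)⁻¹) := by ring
      _ = C * (E j * (E k)⁻¹) := by rw [h3, one_mul]
  have no : ∀ i j, i ≠ j → Q i j → τ (blk c Q E i j) * blk c Q E i j = C := fun i j hij h1 => by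
    rw [no2 i j j hij hij h1 h1, mul_inv_cancel₀ (hE0 j), mul_one]
  have ne0 : ∀ i j, τ (blk c Q E i j) * blk c Q E i j ≠ 0 → i = j ∨ Q i j := fun i j h1 => by
    refine blk_ne (c := c) (E := E) fun h2 => h1 ?_
    rw [h2, mul_zero]
  have hs : ∀ j i, σ (τ (blk c Q E j i) * blk c Q E j i) =
      τ (blk c Q E (π' j) (π i)) * blk c Q E (π' j) (π i) := fun j i => by
    have h1 := h j i i
    rwa [ht.self, one_mul] at h1
  have hσ0 : ∀ {x : K}, x ≠ 0 → σ x ≠ 0 := fun hx => by
    rw [Ne, map_eq_zero]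
    exact hx
  -- the rows are permuted in the same way
  have key : ∀ j, Q j j → π' j = π j := by
    intro j hj
    by_contra hne
    have h1 := hs j j
    rw [nd j hj] at h1
    have h2 : Q (π' j) (π j) := by
      rcases ne0 (π' j) (π j) (h1 ▸ hσ0 hA0) with h2 | h2
      · exact absurd h2 hne
      · exact h2
    rw [no _ _ hne h2] at h1
    have hk : Q (π' j) (π' j) := hQ.trans _ _ _ h2 (hQ.symm _ _ h2)
    obtain ⟨i, hi⟩ : ∃ i, π i = π' j := ⟨π.symm (π' j), π.apply_symm_apply _⟩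
    have h3 := hs j i
    rw [hi, nd _ hk] at h3
    have hji : j ≠ i := by
      rintro rfl
      exact hne hi.symm
    have h4 : Q j i := by
      rcases ne0 j i (fun h5 => hA0 (by rw [← h3, h5, map_zero])) with h5 | h5
      · exact absurd h5 hji
      · exact h5
    rw [no _ _ hji h4] at h3
    obtain ⟨l, hl1, hl2, hl3⟩ := hQ.third le_rfl h4
    have h5 := hs j l
    rw [no _ _ hl2.symm hl1] at h5
    have h6 : π' j ≠ π l := by
      rw [← hi]
      exact fun h7 => hl3 (π.injective h7).symm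
    have h7 : Q (π' j) (π l) := by
      rcases ne0 (π' j) (π l) (h5 ▸ hσ0 hC0) with h8 | h8
      · exact absurd h8 h6
      · exact h8
    rw [no _ _ h6 h7] at h5
    exact hN (h3.symm.trans h5)
  obtain ⟨l, hl1, hl2, hl3⟩ := hQ.third le_rfl hQab
  have hll : Q l l := hQ.trans _ _ _ (hQ.symm _ _ hl1) hl1
  have hla : Q l a := hQ.symm _ _ hl1
  have hlb : Q l b := hQ.trans _ _ _ hla hQab
  have h1 := h l a b
  have h2 := hs l a
  have h3 := hs l b
  rw [key l hll] at h1 h2 h3
  have n1 : π l ≠ π a := fun h' => hl2 (π.injective h')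
  have n2 : π l ≠ π b := fun h' => hl3 (π.injective h')
  rw [no _ _ hl2 hla] at h2
  rw [no _ _ hl3 hlb] at h3
  have q1 : Q (π l) (π a) := by
    rcases ne0 _ _ (h2 ▸ hσ0 hC0) with h8 | h8
    · exact absurd h8 n1
    · exact h8
  have q2 : Q (π l) (π b) := by
    rcases ne0 _ _ (h3 ▸ hσ0 hC0) with h8 | h8
    · exact absurd h8 n2
    · exact h8
  rw [no _ _ n1 q1] at h2
  rw [no2 _ _ _ hl2 hl3 hla hlb, no2 _ _ _ n1 n2 q1 q2, map_mul, h2] at h1
  have h4 : C * (t a b * σ (E a * (E b)⁻¹)) = C * (E (π a) * (E (π b))⁻¹) := by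
    rw [← h1]; ring
  exact mul_left_cancel₀ hC0 h4

/-- the class of `a` has no more than `3` elements -/
theorem Part.mem3 {Q : Fin n → Fin n → Prop} (hQ : Part Q 3) {a b d : Fin n} (hab : a ≠ b) (had : a ≠ d)
    (hbd : b ≠ d) (h1 : Q a b) (h2 : Q a d) {k : Fin n} (hk : Q a k) : k = a ∨ k = b ∨ k = d := by
  classical
  by_contra h3
  push Not at h3
  obtain ⟨h3, h4, h5⟩ := h3
  have haa : Q a a := hQ.trans _ _ _ h1 (hQ.symm _ _ h1)
  have h6 := hQ.card a haa
  rw [Nat.card_eq_fintype_card, Fintype.card_subtype] at h6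
  have h7 : ({a, b, d, k} : Finset (Fin n)) ⊆ Finset.univ.filter (Q a) := by
    intro x hx
    simp only [Finset.mem_insert, Finset.mem_singleton] at hx
    rw [Finset.mem_filter]
    refine ⟨Finset.mem_univ _, ?_⟩
    rcases hx with rfl | rfl | rfl | rfl
    · exact haa
    · exact h1
    · exact h2
    · exact hk
  have h8 := Finset.card_le_card h7
  have h9 : ({a, b, d, k} : Finset (Fin n)).card = 4 := by
    rw [Finset.card_insert_of_notMem, Finset.card_insert_of_notMem, Finset.card_insert_of_notMem,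
      Finset.card_singleton]
    · simp only [Finset.mem_singleton]; exact h5.symm
    · simp only [Finset.mem_insert, Finset.mem_singleton, not_or]; exact ⟨hbd, h4.symm⟩
    · simp only [Finset.mem_insert, Finset.mem_singleton, not_or]; exact ⟨hab, had, h3.symm⟩
  rw [h9] at h8
  have h10 : (Finset.univ.filter (Q a)).card = 3 := by convert h6
  rw [h10] at h8
  omega

/-- `|K| = 4`, blocks `1 + ω J` of size 3 -/
theorem blk3two {τ : K ≃+* K} {σ : K →+* K} {t : Fin n → Fin n → K} (ht : Mon t)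
    {Q : Fin n → Fin n → Prop} (hQ : Part Q 3) (h2 : (2 : K) = 0) {ω : K} (hω : ω ^ 2 + ω + 1 = 0)
    (hτ : τ ω = 1 + ω) (h : Cmp τ (blk ω Q fun _ => 1) 1 σ t) {a b d : Fin n} (hab : a ≠ b) (had : a ≠ d)
    (hbd : b ≠ d) (h1 : Q a b) (h3 : Q a d) : t a b * t a d * σ ω = ω := by
  have hω0 : ω ≠ 0 := by
    rintro rfl
    simp at hω
  have hω1 : 1 + ω ≠ 0 := by
    intro h4
    have : ω ^ 2 + ω + 1 = ω ^ 2 + (1 + ω) := by ring
    rw [this, h4, add_zero] at hω
    exact hω0 (pow_eq_zero_iff (two_ne_zero) |>.1 hω)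
  have hτ1 : τ (1 + ω) = ω := by
    rw [map_add, map_one, hτ]
    linear_combination h2
  have hE0 : ∀ i : Fin n, (fun _ : Fin n => (1 : K)) i ≠ 0 := fun _ => one_ne_zero
  have dg : ∀ i, Q i i → blk ω Q (fun _ => 1) i i = 1 + ω := fun i hi => blk_diag hE0 hi
  have of : ∀ i j, i ≠ j → Q i j → blk ω Q (fun _ => 1) i j = ω := fun i j hij hi => by
    rw [blk_off hij hi]
    simp
  have haa : Q a a := hQ.trans _ _ _ h1 (hQ.symm _ _ h1)
  have hbb : Q b b := hQ.trans _ _ _ (hQ.symm _ _ h1) h1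
  have hdd : Q d d := hQ.trans _ _ _ (hQ.symm _ _ h3) h3
  have hba : Q b a := hQ.symm _ _ h1
  have hda : Q d a := hQ.symm _ _ h3
  have hbd' : Q b d := hQ.trans _ _ _ hba h3
  have hdb' : Q d b := hQ.symm _ _ hbd'
  obtain ⟨π', h⟩ := h
  have e0 := h a a a
  have e1 := h a a b
  have e2 := h a a d
  simp only [Equiv.Perm.coe_one, id_eq] at e0 e1 e2
  rw [ht.self, one_mul, dg a haa, hτ1] at e0
  rw [dg a haa, of a b hab h1, hτ1] at e1
  rw [dg a haa, of a d had h3, hτ1] at e2
  set k := π' a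
  have hk : k = a ∨ k = b ∨ k = d := by
    have h5 : blk ω Q (fun _ => 1) k a ≠ 0 := by
      intro h6
      rw [h6, mul_zero] at e0
      rw [map_eq_zero] at e0
      exact mul_ne_zero hω0 hω1 e0
    rcases blk_ne h5 with h6 | h6
    · left; exact h6
    · exact hQ.mem3 hab had hbd h1 h3 (hQ.symm _ _ h6)
  have hs3 : σ ω ^ 2 + σ ω + 1 = 0 := by
    have := congrArg σ hω
    simpa using this
  have hmul : t a b * t a d * (σ ω ^ 4) = (τ (blk ω Q (fun _ => 1) k a)) ^ 2 * blk ω Q (fun _ => 1) k b *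
      blk ω Q (fun _ => 1) k d := by
    rw [map_mul] at e1 e2
    linear_combination e1 * (t a d * (σ ω * σ ω)) +
      (τ (blk ω Q (fun _ => 1) k a) * blk ω Q (fun _ => 1) k b) * e2
  have h4 : σ ω ^ 4 = σ ω := by
    linear_combination (σ ω ^ 2 - σ ω) * hs3
  rw [h4] at hmul
  rw [hmul]
  have hω4 : ω ^ 4 = ω := by linear_combination (ω ^ 2 - ω) * hω
  rcases hk with hk | hk | hk
  · rw [hk, dg a haa, of a b hab h1, of a d had h3, hτ1]
    linear_combination hω4
  · rw [hk, of b a hab.symm hba, dg b hbb, of b d hbd hbd', hτ]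
    linear_combination (ω ^ 2 + 2 * ω) * hω - ω * h2
  · rw [hk, of d a had.symm hda, of d b hbd.symm hdb', dg d hdd, hτ]
    linear_combination (ω ^ 2 + 2 * ω) * hω - ω * h2

/-- characteristic 2, blocks `1 + J` of size `m ≥ 4`, even -/
theorem blk4 {τ : K ≃+* K} {σ : K →+* K} {t : Fin n → Fin n → K} (ht : Mon t)
    {Q : Fin n → Fin n → Prop} {m : ℕ} (hQ : Part Q m) (hm : 3 ≤ m) (h2 : (2 : K) = 0)
    (h : Cmp τ (blk 1 Q fun _ => 1) 1 σ t) {a b : Fin n} (hab : a ≠ b) (h1 : Q a b) : t a b = 1 := by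
  have hE0 : ∀ i : Fin n, (fun _ : Fin n => (1 : K)) i ≠ 0 := fun _ => one_ne_zero
  have dg : ∀ i, Q i i → blk (1 : K) Q (fun _ => 1) i i = 0 := fun i hi => by
    rw [blk_diag hE0 hi]
    linear_combination h2
  have of : ∀ i j, i ≠ j → Q i j → blk (1 : K) Q (fun _ => 1) i j = 1 := fun i j hij hi => by
    rw [blk_off hij hi]
    simp
  obtain ⟨l, hl1, hl2, hl3⟩ := hQ.third hm h1
  have hll : Q l l := hQ.trans _ _ _ (hQ.symm _ _ hl1) hl1
  have hla : Q l a := hQ.symm _ _ hl1
  have hlb : Q l b := hQ.trans _ _ _ hla h1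
  obtain ⟨π', h⟩ := h
  have e1 := h l a b
  have e2 := h l l l
  have e3 := h l b b
  simp only [Equiv.Perm.coe_one, id_eq] at e1 e2 e3
  rw [dg l hll, mul_zero, map_zero, mul_zero] at e2
  rw [of l a hl2 hla, of l b hl3 hlb, map_one, mul_one, map_one, mul_one] at e1
  have hk : π' l = l := by
    by_contra hne
    have h3 : Q (π' l) l := by
      have h4 : blk (1 : K) Q (fun _ => 1) (π' l) b ≠ 0 := by
        intro h5
        rw [h5, mul_zero, of l b hl3 hlb, map_one, mul_one, map_one, mul_one] at e3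
        exact ht.ne b b e3
      rcases blk_ne h4 with h5 | h5
      · rw [h5]
        exact hQ.symm _ _ hlb
      · exact hQ.trans _ _ _ h5 (hQ.symm _ _ hlb)
    rw [of _ _ hne h3] at e2
    simp at e2
  rw [hk, of l a hl2 hla, of l b hl3 hlb, map_one, mul_one] at e1
  exact e1

end Cfsg.Agent.H324.FC
end

-- part: H324/FC/Rig
section
/-!
# S5764, [B-C2U1]: four unitary matrices rigidify an orthonormal frame (helper324)
-/

set_option autoImplicit false

namespace Cfsg.Agent.H324.FC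

universe u

variable {n : ℕ}

/-- triples `{s, s+1, s+2}` with `s % 3 = r` -/
def tri (n r : ℕ) (i j : Fin n) : Prop :=
  ∃ s : ℕ, s % 3 = r ∧ s + 2 < n ∧ s ≤ i.val ∧ i.val ≤ s + 2 ∧ s ≤ j.val ∧ j.val ≤ s + 2

/-- the initial segment -/
def ini (n m : ℕ) (i j : Fin n) : Prop := i.val < m ∧ j.val < m

/-- the triple `{0, 1, 3}` -/
def oth (n : ℕ) (i j : Fin n) : Prop := i.val ≠ 2 ∧ j.val ≠ 2

open Classical in
theorem part_tri (n r : ℕ) : Part (tri n r) 3 where
  symm := by
    rintro i j ⟨s, h1, h2, h3, h4, h5, h6⟩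
    exact ⟨s, h1, h2, h5, h6, h3, h4⟩
  trans := by
    rintro i j k ⟨s, h1, h2, h3, h4, h5, h6⟩ ⟨s', g1, g2, g3, g4, g5, g6⟩
    have : s = s' := by omega
    subst this
    exact ⟨s, h1, h2, h3, h4, g5, g6⟩
  card := by
    rintro i ⟨s, h1, h2, h3, h4, h5, h6⟩
    rw [Nat.card_eq_fintype_card, Fintype.card_subtype]
    refine Finset.card_eq_three.2 ⟨⟨s, by omega⟩, ⟨s + 1, by omega⟩, ⟨s + 2, by omega⟩, ?_, ?_, ?_, ?_⟩
    · intro h; have := congrArg Fin.val h; simp at this
    · intro h; have := congrArg Fin.val h; simp at this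
    · intro h; have := congrArg Fin.val h; simp at this
    ext k
    simp only [Finset.mem_filter, Finset.mem_univ, true_and, Finset.mem_insert, Finset.mem_singleton, Fin.ext_iff]
    constructor
    · rintro ⟨s', g1, g2, g3, g4, g5, g6⟩
      omega
    · intro h
      exact ⟨s, h1, h2, h3, h4, by omega, by omega⟩

theorem part_ini {n m : ℕ} (h : m ≤ n) : Part (ini n m) m where
  symm _ _ h := ⟨h.2, h.1⟩
  trans _ _ _ h h' := ⟨h.1, h'.2⟩
  card := by
    rintro i ⟨hi, -⟩
    have e : {k // ini n m i k} ≃ Fin m :=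
      { toFun := fun k => ⟨k.1.1, k.2.2⟩
        invFun := fun j => ⟨⟨j.1, by omega⟩, hi, j.2⟩
        left_inv := fun _ => rfl
        right_inv := fun _ => rfl }
    rw [Nat.card_congr e, Nat.card_eq_fintype_card, Fintype.card_fin]

open Classical in
theorem part_oth : Part (oth 4) 3 where
  symm _ _ h := ⟨h.2, h.1⟩
  trans _ _ _ h h' := ⟨h.1, h'.2⟩
  card := by
    rintro i ⟨hi, -⟩
    rw [Nat.card_eq_fintype_card, Fintype.card_subtype]
    refine Finset.card_eq_three.2 ⟨⟨0, by omega⟩, ⟨1, by omega⟩, ⟨3, by omega⟩, ?_, ?_, ?_, ?_⟩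
    · intro h; have := congrArg Fin.val h; simp at this
    · intro h; have := congrArg Fin.val h; simp at this
    · intro h; have := congrArg Fin.val h; simp at this
    ext k
    simp only [Finset.mem_filter, Finset.mem_univ, true_and, Finset.mem_insert, Finset.mem_singleton, Fin.ext_iff]
    constructor
    · rintro ⟨g1, g2⟩
      have := k.2
      omega
    · intro h
      exact ⟨hi, by omega⟩

/-- the third partition -/
def tq (n : ℕ) (i j : Fin n) : Prop := (n = 4 ∧ oth n i j) ∨ (n ≠ 4 ∧ tri n 2 i j)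

theorem part_tq (n : ℕ) : Part (tq n) 3 := by
  by_cases h : n = 4
  · subst h
    have : tq 4 = oth 4 := by
      funext i j
      simp [tq]
    rw [this]
    exact part_oth
  · have : tq n = tri n 2 := by
      funext i j
      simp [tq, h]
    rw [this]
    exact part_tri n 2

/-- a permutation preserving the partitions is trivial -/
theorem perm_one (hn : 4 ≤ n) (π : Equiv.Perm (Fin n)) (h0' : (π ⟨0, by omega⟩).val < 4)
    (h0 : ∀ a b, a ≠ b → (tri n 0 a b ↔ tri n 0 (π a) (π b)))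
    (h1 : ∀ a b, a ≠ b → (tri n 1 a b ↔ tri n 1 (π a) (π b)))
    (h2 : ∀ a b, a ≠ b → (tq n a b ↔ tq n (π a) (π b))) : π = 1 := by
  have hinj : ∀ a b : Fin n, (π a).val = (π b).val → a.val = b.val := fun a b h => by
    rw [π.injective (Fin.ext h)]
  -- `0`
  have f0 : (π ⟨0, by omega⟩).val = 0 := by
    by_contra hne
    obtain ⟨p, hp1, hp2, hp3⟩ : ∃ p : ℕ, p ≠ (π ⟨0, by omega⟩).val ∧ 1 ≤ p ∧ p ≤ 3 := by
      by_cases h : (π ⟨0, by omega⟩).val = 1
      · exact ⟨2, by omega, by omega, by omega⟩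
      · exact ⟨1, by omega, by omega, by omega⟩
    have hb : π (π.symm ⟨p, by omega⟩) = ⟨p, by omega⟩ := π.apply_symm_apply _
    have hb' : (⟨0, by omega⟩ : Fin n) ≠ π.symm ⟨p, by omega⟩ := by
      intro h
      rw [← h] at hb
      exact hp1 (by rw [hb])
    have h3 := (h1 _ _ hb').2 (by
      rw [hb]
      exact ⟨1, by norm_num, by omega, by omega, by omega, by simp only; omega, by simp only; omega⟩)
    obtain ⟨s, g1, g2, g3, -⟩ := h3
    simp only at g3
    omega
  have m1 : 1 ≤ (π ⟨1, by omega⟩).val ∧ (π ⟨1, by omega⟩).val ≤ 2 := by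
    have h3 := (h0 ⟨0, by omega⟩ ⟨1, by omega⟩ (by simp [Fin.ext_iff])).1
      ⟨0, by norm_num, by omega, by simp, by simp, by simp, by simp⟩
    obtain ⟨s, g1, g2, g3, g4, g5, g6⟩ := h3
    refine ⟨?_, by omega⟩
    rcases Nat.eq_zero_or_pos (π ⟨1, by omega⟩).val with h | h
    · have := hinj ⟨1, by omega⟩ ⟨0, by omega⟩ (by rw [h, f0])
      simp at this
    · exact h
  have m2 : 1 ≤ (π ⟨2, by omega⟩).val ∧ (π ⟨2, by omega⟩).val ≤ 2 := by
    have h3 := (h0 ⟨0, by omega⟩ ⟨2, by omega⟩ (by simp [Fin.ext_iff])).1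
      ⟨0, by norm_num, by omega, by simp, by simp, by simp, by simp⟩
    obtain ⟨s, g1, g2, g3, g4, g5, g6⟩ := h3
    refine ⟨?_, by omega⟩
    rcases Nat.eq_zero_or_pos (π ⟨2, by omega⟩).val with h | h
    · have := hinj ⟨2, by omega⟩ ⟨0, by omega⟩ (by rw [h, f0])
      simp at this
    · exact h
  have f1 : (π ⟨1, by omega⟩).val = 1 := by
    by_contra hne
    have h3 : (π ⟨1, by omega⟩).val = 2 := by omega
    by_cases h4 : n = 4
    · have h5 := (h2 ⟨1, by omega⟩ ⟨0, by omega⟩ (by simp [Fin.ext_iff])).1 (Or.inl ⟨h4, by simp [oth]⟩)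
      rcases h5 with h5 | h5
      · exact h5.2.1 h3
      · exact h5.1 h4
    · have hb : π (π.symm ⟨3, by omega⟩) = ⟨3, by omega⟩ := π.apply_symm_apply _
      have hb' : (⟨1, by omega⟩ : Fin n) ≠ π.symm ⟨3, by omega⟩ := by
        intro h
        rw [← h] at hb
        rw [hb] at h3
        simp at h3
      have h5 := (h2 _ _ hb').2 (by
        rw [hb]
        exact Or.inr ⟨h4, 2, by norm_num, by omega, by omega, by omega, by simp, by simp⟩)
      rcases h5 with h5 | h5
      · exact h4 h5.1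
      · obtain ⟨-, s, g1, g2, g3, -⟩ := h5
        simp only at g3
        omega
  have f2 : (π ⟨2, by omega⟩).val = 2 := by
    by_contra hne
    have h3 : (π ⟨2, by omega⟩).val = 1 := by omega
    have := hinj ⟨2, by omega⟩ ⟨1, by omega⟩ (by rw [h3, f1])
    simp at this
  have key : ∀ k (hk : k < n), (π ⟨k, hk⟩).val = k := by
    intro k
    induction k using Nat.strong_induction_on with
    | _ k ih =>
      intro hk
      rcases Nat.lt_or_ge k 3 with h | h
      · interval_cases k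
        · exact f0
        · exact f1
        · exact f2
      obtain ⟨j, rfl⟩ : ∃ j, k = j + 2 := ⟨k - 2, by omega⟩
      have i1 := ih j (by omega) (by omega)
      have i2 := ih (j + 1) (by omega) (by omega)
      have hne : (⟨j, by omega⟩ : Fin n) ≠ ⟨j + 2, hk⟩ := by simp [Fin.ext_iff]
      have h3 : tri n (j % 3) (π ⟨j, by omega⟩) (π ⟨j + 2, hk⟩) := by
        have h4 : tri n (j % 3) ⟨j, by omega⟩ ⟨j + 2, hk⟩ := ⟨j, rfl, by omega, by simp, by simp, by simp, by simp⟩
        have h5 : j % 3 = 0 ∨ j % 3 = 1 ∨ j % 3 = 2 := by omega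
        rcases h5 with h5 | h5 | h5
        · rw [h5] at h4 ⊢
          exact (h0 _ _ hne).1 h4
        · rw [h5] at h4 ⊢
          exact (h1 _ _ hne).1 h4
        · rw [h5] at h4 ⊢
          have hn4 : n ≠ 4 := by omega
          rcases (h2 _ _ hne).1 (Or.inr ⟨hn4, h4⟩) with h6 | h6
          · exact absurd h6.1 hn4
          · exact h6.2
      obtain ⟨s, g1, g2, g3, g4, g5, g6⟩ := h3
      rw [i1] at g3 g4
      have hs : s = j := by omega
      subst hs
      have n1 : (π ⟨s + 2, hk⟩).val ≠ s := by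
        intro h6
        have := hinj ⟨s + 2, hk⟩ ⟨s, by omega⟩ (by rw [h6, i1])
        simp at this
      have n2 : (π ⟨s + 2, hk⟩).val ≠ s + 1 := by
        intro h6
        have := hinj ⟨s + 2, hk⟩ ⟨s + 1, by omega⟩ (by rw [h6, i2])
        simp at this
      omega
  ext i
  rw [Equiv.Perm.coe_one, id_eq]
  exact key i.val i.2

variable {K : Type u} [Field K]

theorem t_one {t : Fin n → Fin n → K} (ht : Mon t) (h : ∀ i j : Fin n, j.val = i.val + 1 → t i j = 1)
    (a b : Fin n) : t a b = 1 := by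
  have h0 : ∀ k (hk : k < n), t ⟨0, by omega⟩ ⟨k, hk⟩ = 1 := by
    intro k
    induction k with
    | zero => intro hk; exact ht.self _
    | succ k ih =>
      intro hk
      exact ht.trans (ih (by omega)) (h _ _ rfl)
  exact ht.trans (ht.symm (h0 a.val a.2)) (h0 b.val b.2)

theorem tri_succ (hn : 3 ≤ n) (i j : Fin n) (h : j.val = i.val + 1) : ∃ s, s + 2 < n ∧ tri n (s % 3) i j ∧
    s ≤ i.val ∧ i.val ≤ s + 1 := by
  have := j.2
  by_cases h1 : i.val + 2 < n
  · exact ⟨i.val, h1, ⟨i.val, rfl, h1, by omega, by omega, by omega, by omega⟩, by omega, by omega⟩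
  · exact ⟨i.val - 1, by omega, ⟨i.val - 1, rfl, by omega, by omega, by omega, by omega, by omega⟩, by omega,
      by omega⟩

theorem rigid3 [Finite K] {τ : K ≃+* K} (hinv : ∀ a, τ (τ a) = a) (hne : ∃ a, τ a ≠ a) (h4 : Nat.card K ≠ 4) :
    ∃ X : Fin 4 → Matrix (Fin 3) (Fin 3) K, (∀ r, Uni τ (X r)) ∧
      ∀ (π : Equiv.Perm (Fin 3)) (σ : K →+* K) (t : Fin 3 → Fin 3 → K), Mon t → (∀ r, Cmp τ (X r) π σ t) →
        π = 1 ∧ σ = RingHom.id K ∧ ∀ a b, t a b = 1 := by
  obtain ⟨c, hc, hc1, hcu, hcN⟩ := exists_c τ hinv hne h4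
  obtain ⟨ξ, hξ, hξ3, -, hσ⟩ := exists_xi τ hinv hne
  have hξ1 : ξ ≠ 1 := fun h => hξ3 h4 (by rw [h, one_pow])
  have hξ0 : ξ ≠ 0 := fun h => by
    rw [h, zero_mul] at hξ
    exact zero_ne_one hξ
  have hP : Part (ini 3 3) 3 := part_ini le_rfl
  have hI : ∀ a b : Fin 3, ini 3 3 a b := fun a b => ⟨a.2, b.2⟩
  have hE0 : ∀ i : Fin 3, (fun _ : Fin 3 => (1 : K)) i * τ ((fun _ : Fin 3 => (1 : K)) i) = 1 := fun i => by simp
  have hE : ∀ j i : Fin 3, Function.update (fun _ : Fin 3 => (1 : K)) j ξ i *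
      τ (Function.update (fun _ : Fin 3 => (1 : K)) j ξ i) = 1 := fun j i => by
    by_cases h : i = j
    · subst h
      simpa using hξ
    · simp [Function.update_of_ne h]
  refine ⟨![blk c (ini 3 3) fun _ => 1, blk c (ini 3 3) (Function.update (fun _ => 1) 1 ξ),
    blk c (ini 3 3) (Function.update (fun _ => 1) 0 ξ), blk c (ini 3 3) (Function.update (fun _ => 1) 0 ξ)],
    ?_, ?_⟩
  · intro r
    fin_cases r
    · exact uni_blk hP hcu hE0
    · exact uni_blk hP hcu (hE 1)
    · exact uni_blk hP hcu (hE 0)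
    · exact uni_blk hP hcu (hE 0)
  · intro π σ t ht hX
    have h0 : ∀ a b : Fin 3, a ≠ b → t a b = 1 := fun a b hab => by
      have := blk3 ht hP hc hc1 hcN hE0 (hX 0) hab (hI a b)
      simpa using this
    have h1 : ∀ a b : Fin 3, a ≠ b → _ := fun a b hab => blk3 ht hP hc hc1 hcN (hE 1) (hX 1) hab (hI a b)
    have h2 : ∀ a b : Fin 3, a ≠ b → _ := fun a b hab => blk3 ht hP hc hc1 hcN (hE 0) (hX 2) hab (hI a b)
    have fix : ∀ j a b : Fin 3, a ≠ b → a ≠ j → b ≠ j → (t a b * σ (Function.update (fun _ => (1 : K)) j ξ a *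
        (Function.update (fun _ => (1 : K)) j ξ b)⁻¹) = Function.update (fun _ => (1 : K)) j ξ (π a) *
        (Function.update (fun _ => (1 : K)) j ξ (π b))⁻¹) → π a ≠ j ∧ π b ≠ j := by
      intro j a b hab ha hb h
      rw [h0 a b hab, Function.update_of_ne ha, Function.update_of_ne hb, inv_one, mul_one, map_one, mul_one] at h
      constructor
      · intro h3
        have h4 : π b ≠ j := fun h4 => hab (π.injective (h3.trans h4.symm))
        rw [h3, Function.update_self, Function.update_of_ne h4, inv_one, mul_one] at h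
        exact hξ1 h.symm
      · intro h3
        have h4 : π a ≠ j := fun h4 => hab (π.injective (h4.trans h3.symm))
        rw [h3, Function.update_self, Function.update_of_ne h4, one_mul] at h
        exact hξ1 (inv_eq_one.1 h.symm)
    have p1 := fix 1 0 2 (by decide) (by decide) (by decide) (h1 0 2 (by decide))
    have p2 := fix 0 1 2 (by decide) (by decide) (by decide) (h2 1 2 (by decide))
    have hπ : π = 1 := by
      have aux : ∀ π : Equiv.Perm (Fin 3), (π 0 ≠ 1 ∧ π 2 ≠ 1) → (π 1 ≠ 0 ∧ π 2 ≠ 0) → π = 1 := by decide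
      exact aux π p1 p2
    subst hπ
    refine ⟨rfl, hσ σ ?_, fun a b => ?_⟩
    · have h3 := h1 1 0 (by decide)
      rw [h0 1 0 (by decide), Equiv.Perm.coe_one, id_eq, id_eq, Function.update_self,
        Function.update_of_ne (by decide), inv_one, mul_one, one_mul] at h3
      exact h3
    · by_cases hab : a = b
      · rw [hab]; exact ht.self b
      · exact h0 a b hab

/-- the common part of the two cases with `n ≥ 4` -/
theorem perm_one' (hn : 4 ≤ n) {τ : K ≃+* K} {π : Equiv.Perm (Fin n)} {σ : K →+* K} {t : Fin n → Fin n → K}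
    (ht : Mon t) {c : K} (hc : c ≠ 0) (h0 : Cmp τ (blk c (tri n 0) fun _ => 1) π σ t)
    (h1 : Cmp τ (blk c (tri n 1) fun _ => 1) π σ t) (h2 : Cmp τ (blk c (tq n) fun _ => 1) π σ t)
    {c' : K} (hc' : c' ≠ 0) {m : ℕ} (hm : 3 ≤ m) (hm4 : m ≤ 4) {E : Fin n → K} (hE : ∀ i, E i ≠ 0)
    (h3 : Cmp τ (blk c' (ini n m) E) π σ t) : π = 1 := by
  have h1' : ∀ i : Fin n, (fun _ : Fin n => (1 : K)) i ≠ 0 := fun _ => one_ne_zero
  refine perm_one hn π ?_ (fun a b hab => rel_perm ht (part_tri n 0) le_rfl hc h1' h0 hab)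
    (fun a b hab => rel_perm ht (part_tri n 1) le_rfl hc h1' h1 hab)
    (fun a b hab => rel_perm ht (part_tq n) le_rfl hc h1' h2 hab)
  have h4 := (rel_perm ht (part_ini (by omega : m ≤ n)) hm hc' hE h3 (a := ⟨0, by omega⟩) (b := ⟨1, by omega⟩)
    (by simp [Fin.ext_iff])).1 ⟨by simp only; omega, by simp only; omega⟩
  have := h4.1
  omega

theorem rigidA [Finite K] (hn : 4 ≤ n) {τ : K ≃+* K} (hinv : ∀ a, τ (τ a) = a) (hne : ∃ a, τ a ≠ a)
    (h4 : Nat.card K ≠ 4) : ∃ X : Fin 4 → Matrix (Fin n) (Fin n) K, (∀ r, Uni τ (X r)) ∧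
      ∀ (π : Equiv.Perm (Fin n)) (σ : K →+* K) (t : Fin n → Fin n → K), Mon t → (∀ r, Cmp τ (X r) π σ t) →
        π = 1 ∧ σ = RingHom.id K ∧ ∀ a b, t a b = 1 := by
  obtain ⟨c, hc, hc1, hcu, hcN⟩ := exists_c τ hinv hne h4
  obtain ⟨ξ, hξ, hξ3, -, hσ⟩ := exists_xi τ hinv hne
  have hξ0 : ξ ≠ 0 := fun h => by
    rw [h, zero_mul] at hξ
    exact zero_ne_one hξ
  have hE0 : ∀ i : Fin n, (fun _ : Fin n => (1 : K)) i * τ ((fun _ : Fin n => (1 : K)) i) = 1 := fun i => by simp
  have hE : ∀ j i : Fin n, Function.update (fun _ : Fin n => (1 : K)) j ξ i *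
      τ (Function.update (fun _ : Fin n => (1 : K)) j ξ i) = 1 := fun j i => by
    by_cases h : i = j
    · subst h
      simpa using hξ
    · simp [Function.update_of_ne h]
  have hE' : ∀ j i : Fin n, Function.update (fun _ : Fin n => (1 : K)) j ξ i ≠ 0 := fun j i h => by
    have := hE j i
    rw [h, zero_mul] at this
    exact zero_ne_one this
  have hP : Part (ini n 3) 3 := part_ini (by omega)
  refine ⟨![blk c (tri n 0) fun _ => 1, blk c (tri n 1) fun _ => 1, blk c (tq n) fun _ => 1,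
    blk c (ini n 3) (Function.update (fun _ => 1) ⟨1, by omega⟩ ξ)], ?_, ?_⟩
  · intro r
    fin_cases r
    · exact uni_blk (part_tri n 0) hcu hE0
    · exact uni_blk (part_tri n 1) hcu hE0
    · exact uni_blk (part_tq n) hcu hE0
    · exact uni_blk hP hcu (hE _)
  · intro π σ t ht hX
    have hπ : π = 1 := perm_one' hn ht hc (hX 0) (hX 1) (hX 2) hc le_rfl (by norm_num) (hE' _) (hX 3)
    subst hπ
    have h0 : ∀ a b : Fin n, a ≠ b → tri n 0 a b → t a b = 1 := fun a b hab h => by
      have := blk3 ht (part_tri n 0) hc hc1 hcN hE0 (hX 0) hab h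
      simpa using this
    have h1 : ∀ a b : Fin n, a ≠ b → tri n 1 a b → t a b = 1 := fun a b hab h => by
      have := blk3 ht (part_tri n 1) hc hc1 hcN hE0 (hX 1) hab h
      simpa using this
    have h2 : ∀ a b : Fin n, a ≠ b → tq n a b → t a b = 1 := fun a b hab h => by
      have := blk3 ht (part_tq n) hc hc1 hcN hE0 (hX 2) hab h
      simpa using this
    have ht1 : ∀ a b, t a b = 1 := by
      refine t_one ht fun i j hij => ?_
      have hne : i ≠ j := fun h => by rw [h] at hij; omega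
      obtain ⟨s, hs, h5, h6, h7⟩ := tri_succ (by omega) i j hij
      have h8 : s % 3 = 0 ∨ s % 3 = 1 ∨ s % 3 = 2 := by omega
      rcases h8 with h8 | h8 | h8
      · rw [h8] at h5
        exact h0 i j hne h5
      · rw [h8] at h5
        exact h1 i j hne h5
      · rw [h8] at h5
        exact h2 i j hne (Or.inr ⟨by omega, h5⟩)
    refine ⟨rfl, hσ σ ?_, ht1⟩
    have h3 := blk3 ht hP hc hc1 hcN (hE ⟨1, by omega⟩) (hX 3) (a := ⟨1, by omega⟩) (b := ⟨0, by omega⟩)
      (by simp [Fin.ext_iff]) ⟨by simp, by simp⟩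
    rw [ht1, Equiv.Perm.coe_one, id_eq, id_eq, Function.update_self,
      Function.update_of_ne (by simp [Fin.ext_iff]), inv_one, mul_one, one_mul] at h3
    exact h3

theorem rigidB [Finite K] (hn : 4 ≤ n) {τ : K ≃+* K} (hinv : ∀ a, τ (τ a) = a) (hne : ∃ a, τ a ≠ a)
    (h4 : Nat.card K = 4) : ∃ X : Fin 4 → Matrix (Fin n) (Fin n) K, (∀ r, Uni τ (X r)) ∧
      ∀ (π : Equiv.Perm (Fin n)) (σ : K →+* K) (t : Fin n → Fin n → K), Mon t → (∀ r, Cmp τ (X r) π σ t) →
        π = 1 ∧ σ = RingHom.id K ∧ ∀ a b, t a b = 1 := by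
  obtain ⟨ω, hω, -, hω2, hσ⟩ := exists_xi τ hinv hne
  have hω2 := hω2 h4
  have h2 := card_four h4
  have hω0 : ω ≠ 0 := fun h => by
    rw [h, zero_mul] at hω
    exact zero_ne_one hω
  have hτω : τ ω = 1 + ω := by
    have h5 : ω * τ ω = ω * (1 + ω) := by
      rw [hω]
      linear_combination h2 - hω2
    exact mul_left_cancel₀ hω0 h5
  have hE0 : ∀ i : Fin n, (fun _ : Fin n => (1 : K)) i * τ ((fun _ : Fin n => (1 : K)) i) = 1 := fun i => by simp
  have h1' : ∀ i : Fin n, (fun _ : Fin n => (1 : K)) i ≠ 0 := fun _ => one_ne_zero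
  have hP : Part (ini n 4) 4 := part_ini (by omega)
  have hcu : ω + τ ω + (3 : ℕ) * (ω * τ ω) = 0 := by
    rw [hτω]
    push_cast
    linear_combination 3 * hω2 + (ω - 1) * h2
  have hcu' : (1 : K) + τ 1 + (4 : ℕ) * (1 * τ 1) = 0 := by
    rw [map_one]
    push_cast
    linear_combination 3 * h2
  refine ⟨![blk ω (tri n 0) fun _ => 1, blk ω (tri n 1) fun _ => 1, blk ω (tq n) fun _ => 1,
    blk 1 (ini n 4) fun _ => 1], ?_, ?_⟩
  · intro r
    fin_cases r
    · exact uni_blk (part_tri n 0) hcu hE0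
    · exact uni_blk (part_tri n 1) hcu hE0
    · exact uni_blk (part_tq n) hcu hE0
    · exact uni_blk hP hcu' hE0
  · intro π σ t ht hX
    have hπ : π = 1 := perm_one' hn ht hω0 (hX 0) (hX 1) (hX 2) one_ne_zero (by norm_num) le_rfl h1' (hX 3)
    subst hπ
    have hT : ∀ a b : Fin n, a ≠ b → ini n 4 a b → t a b = 1 := fun a b hab h =>
      blk4 ht hP (by norm_num) h2 (hX 3) hab h
    have hσω : σ ω = ω := by
      have h5 := blk3two ht (part_tri n 0) h2 hω2 hτω (hX 0) (a := ⟨0, by omega⟩) (b := ⟨1, by omega⟩)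
        (d := ⟨2, by omega⟩) (by simp [Fin.ext_iff]) (by simp [Fin.ext_iff]) (by simp [Fin.ext_iff])
        ⟨0, rfl, by omega, by simp, by simp, by simp, by simp⟩ ⟨0, rfl, by omega, by simp, by simp, by simp, by simp⟩
      rw [hT ⟨0, by omega⟩ ⟨1, by omega⟩ (by simp [Fin.ext_iff]) ⟨by simp, by simp⟩,
        hT ⟨0, by omega⟩ ⟨2, by omega⟩ (by simp [Fin.ext_iff]) ⟨by simp, by simp⟩, one_mul, one_mul] at h5
      exact h5
    -- products on a triple
    have key : ∀ s (hs : s + 2 < n), t ⟨s, by omega⟩ ⟨s + 1, by omega⟩ * t ⟨s, by omega⟩ ⟨s + 2, hs⟩ = 1 := by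
      intro s hs
      have n1 : (⟨s, by omega⟩ : Fin n) ≠ ⟨s + 1, by omega⟩ := by simp [Fin.ext_iff]
      have n2 : (⟨s, by omega⟩ : Fin n) ≠ ⟨s + 2, by omega⟩ := by simp [Fin.ext_iff]
      have n3 : (⟨s + 1, by omega⟩ : Fin n) ≠ ⟨s + 2, by omega⟩ := by simp [Fin.ext_iff]
      have t1 : tri n (s % 3) ⟨s, by omega⟩ ⟨s + 1, by omega⟩ := ⟨s, rfl, hs, by simp, by simp, by simp, by simp⟩
      have t2 : tri n (s % 3) ⟨s, by omega⟩ ⟨s + 2, by omega⟩ := ⟨s, rfl, hs, by simp, by simp, by simp, by simp⟩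
      have h8 : s % 3 = 0 ∨ s % 3 = 1 ∨ s % 3 = 2 := by omega
      have h9 : t ⟨s, by omega⟩ ⟨s + 1, by omega⟩ * t ⟨s, by omega⟩ ⟨s + 2, hs⟩ * σ ω = ω := by
        rcases h8 with h8 | h8 | h8
        · rw [h8] at t1 t2
          exact blk3two ht (part_tri n 0) h2 hω2 hτω (hX 0) n1 n2 n3 t1 t2
        · rw [h8] at t1 t2
          exact blk3two ht (part_tri n 1) h2 hω2 hτω (hX 1) n1 n2 n3 t1 t2
        · rw [h8] at t1 t2
          exact blk3two ht (part_tq n) h2 hω2 hτω (hX 2) n1 n2 n3 (Or.inr ⟨by omega, t1⟩) (Or.inr ⟨by omega, t2⟩)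
      rw [hσω] at h9
      exact mul_right_cancel₀ hω0 (h9.trans (one_mul _).symm)
    have hk : ∀ k (hk : k + 1 < n), t ⟨k, by omega⟩ ⟨k + 1, hk⟩ = 1 := by
      intro k
      induction k with
      | zero => intro hk; exact hT _ _ (by simp [Fin.ext_iff]) ⟨by simp, by simp⟩
      | succ k ih =>
        intro hk
        have h5 := key k (by omega)
        rw [ih (by omega), one_mul] at h5
        exact ht.trans (ht.symm (ih (by omega))) h5
    refine ⟨rfl, hσ σ hσω, t_one ht fun i j hij => ?_⟩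
    have h5 := hk i.val (by omega)
    have h6 : (⟨i.val + 1, by omega⟩ : Fin n) = j := Fin.ext hij.symm
    rw [h6] at h5
    exact h5

/-- **four unitary matrices rigidify an orthonormal frame** -/
theorem exists_rigid [Finite K] {τ : K ≃+* K} (hinv : ∀ a, τ (τ a) = a) (hne : ∃ a, τ a ≠ a) (hn : 3 ≤ n)
    (h34 : n = 3 → Nat.card K ≠ 4) : ∃ X : Fin 4 → Matrix (Fin n) (Fin n) K, (∀ r, Uni τ (X r)) ∧
      ∀ (π : Equiv.Perm (Fin n)) (σ : K →+* K) (t : Fin n → Fin n → K), Mon t → (∀ r, Cmp τ (X r) π σ t) →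
        π = 1 ∧ σ = RingHom.id K ∧ ∀ a b, t a b = 1 := by
  by_cases h3 : n = 3
  · subst h3
    exact rigid3 hinv hne (h34 rfl)
  · by_cases h4 : Nat.card K = 4
    · exact rigidB (by omega) hinv hne h4
    · exact rigidA (by omega) hinv hne h4

end Cfsg.Agent.H324.FC
end

-- part: H324/FC/Frame
section
/-!
# S5764, [B-C2U1]: orthonormal frames of unitary spaces (helper324)
-/

set_option autoImplicit false

namespace Cfsg.Agent.H324.FC

open Cfsg.Agent.H198.FC Cfsg.Agent.H412.FC
open Cfsg.Agent.H200.FC (Ph Ph_apply Ph_apply' up mem_up up_le)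

universe u v

section mat

variable {K : Type u} [Field K] {n : ℕ}

theorem Uni.mul_eq {τ : K ≃+* K} {x : Matrix (Fin n) (Fin n) K} (h : Uni τ x) :
    x * ((τ : K →+* K).mapMatrix x).transpose = 1 := by
  ext i j
  rw [Matrix.mul_apply, Matrix.one_apply, ← h i j]
  rfl

theorem Uni.det {τ : K ≃+* K} {x : Matrix (Fin n) (Fin n) K} (h : Uni τ x) : x.det * τ x.det = 1 := by
  have h1 := congrArg Matrix.det h.mul_eq
  rw [Matrix.det_mul, Matrix.det_transpose, ← RingHom.map_det, Matrix.det_one] at h1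
  exact h1

/-- the columns are orthonormal as well -/
theorem Uni.col {τ : K ≃+* K} {x : Matrix (Fin n) (Fin n) K} (h : Uni τ x) (i j : Fin n) :
    ∑ k, x k i * τ (x k j) = if i = j then 1 else 0 := by
  have h1 := mul_eq_one_comm.1 h.mul_eq
  have h2 := congrFun (congrFun h1 j) i
  rw [Matrix.mul_apply, Matrix.one_apply] at h2
  rw [show (if i = j then (1 : K) else 0) = if j = i then 1 else 0 by simp [eq_comm], ← h2]
  exact Finset.sum_congr rfl fun k _ => mul_comm _ _

/-- the version with determinants 1 -/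
theorem exists_rigid' [Finite K] {τ : K ≃+* K} (hinv : ∀ a, τ (τ a) = a) (hne : ∃ a, τ a ≠ a) (hn : 3 ≤ n)
    (h34 : n = 3 → Nat.card K ≠ 4) : ∃ X : Fin 4 → Matrix (Fin n) (Fin n) K, (∀ r, Uni τ (X r)) ∧
      (∀ r, (X r).det = 1) ∧
      ∀ (π : Equiv.Perm (Fin n)) (σ : K →+* K) (t : Fin n → Fin n → K), Mon t → (∀ r, Cmp τ (X r) π σ t) →
        π = 1 ∧ σ = RingHom.id K ∧ ∀ a b, t a b = 1 := by
  obtain ⟨X, hX, hr⟩ := exists_rigid hinv hne hn h34
  let s : Fin 4 → Fin n → K := fun r i => if i = ⟨0, by omega⟩ then (X r).det⁻¹ else 1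
  have hs : ∀ r i, τ (s r i) * s r i = 1 := by
    intro r i
    by_cases h : i = ⟨0, by omega⟩
    · simp only [s]
      rw [if_pos h, map_inv₀, ← mul_inv, mul_comm, (hX r).det, inv_one]
    · simp only [s]
      rw [if_neg h, map_one, mul_one]
  have hprod : ∀ r, ∏ i, s r i = (X r).det⁻¹ := by
    intro r
    rw [Finset.prod_ite_eq' Finset.univ (⟨0, by omega⟩ : Fin n) (fun _ => (X r).det⁻¹), if_pos (Finset.mem_univ _)]
  refine ⟨fun r => Matrix.diagonal (s r) * X r, fun r i j => ?_, fun r => ?_, fun π σ t ht hC => hr π σ t ht ?_⟩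
  · have h1 : ∀ k, (Matrix.diagonal (s r) * X r) i k * τ ((Matrix.diagonal (s r) * X r) j k) =
        s r i * τ (s r j) * (X r i k * τ (X r j k)) := fun k => by
      rw [Matrix.diagonal_mul, Matrix.diagonal_mul, map_mul]
      ring
    rw [Finset.sum_congr rfl fun k _ => h1 k, ← Finset.mul_sum, hX r i j]
    by_cases hij : i = j
    · rw [if_pos hij, mul_one, hij, mul_comm, hs]
    · rw [if_neg hij, mul_zero]
  · rw [Matrix.det_mul, Matrix.det_diagonal, hprod]
    refine inv_mul_cancel₀ fun h => ?_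
    have h1 := (hX r).det
    rw [h, zero_mul] at h1
    exact zero_ne_one h1
  · intro r
    obtain ⟨π', h⟩ := hC r
    refine ⟨π', fun j a b => ?_⟩
    have h1 := h j a b
    have h2 : ∀ j a b, τ ((Matrix.diagonal (s r) * X r) j a) * (Matrix.diagonal (s r) * X r) j b =
        τ (X r j a) * X r j b := fun j a b => by
      rw [Matrix.diagonal_mul, Matrix.diagonal_mul, map_mul]
      calc τ (s r j) * τ (X r j a) * (s r j * X r j b) = (τ (s r j) * s r j) * (τ (X r j a) * X r j b) := by ring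
        _ = _ := by rw [hs, one_mul]
    rw [h2, h2] at h1
    exact h1

end mat

section frame

variable {K : Type u} [Field K] {V : Type v} [AddCommGroup V] [Module K V]

theorem B_sum_left (b : Cl K V) {ι : Type*} (s : Finset ι) (f : ι → V) (w : V) :
    b.B (∑ i ∈ s, f i) w = ∑ i ∈ s, b.B (f i) w := by
  classical
  induction s using Finset.induction_on with
  | empty => simpa using B_zero_left b w
  | insert a s ha ih => rw [Finset.sum_insert ha, Finset.sum_insert ha, b.add_left, ih]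

theorem B_sum_right (b : Cl K V) {ι : Type*} (s : Finset ι) (f : ι → V) (w : V) :
    b.B w (∑ i ∈ s, f i) = ∑ i ∈ s, b.B w (f i) := by
  classical
  induction s using Finset.induction_on with
  | empty => simpa using B_zero_right b w
  | insert a s ha ih => rw [Finset.sum_insert ha, Finset.sum_insert ha, b.add_right, ih]

variable {n : ℕ}

/-- `b.B` of combinations of an orthonormal family -/
theorem B_comb (b : Cl K V) {v : Fin n → V} (hv : ∀ i j, b.B (v i) (v j) = if i = j then 1 else 0)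
    (f g : Fin n → K) : b.B (∑ i, f i • v i) (∑ j, g j • v j) = ∑ i, f i * b.τ (g i) := by
  rw [B_sum_left]
  refine Finset.sum_congr rfl fun i _ => ?_
  rw [B_sum_right, Finset.sum_eq_single i]
  · rw [b.smul_left, b.smul_right, hv, if_pos rfl, mul_one]
  · intro j _ hj
    rw [b.smul_left, b.smul_right, hv, if_neg (Ne.symm hj), mul_zero, mul_zero]
  · intro h
    exact absurd (Finset.mem_univ i) h

/-- a linear map preserving `B` on a basis -/
theorem isom_of_basis (b : Cl K V) (v : Module.Basis (Fin n) K V) (x : V →ₗ[K] V)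
    (h : ∀ i j, b.B (x (v i)) (x (v j)) = b.B (v i) (v j)) (w w' : V) : b.B (x w) (x w') = b.B w w' := by
  rw [← v.sum_repr w, ← v.sum_repr w', map_sum, map_sum, B_sum_left, B_sum_left]
  refine Finset.sum_congr rfl fun i _ => ?_
  rw [B_sum_right, B_sum_right]
  refine Finset.sum_congr rfl fun j _ => ?_
  rw [map_smul, map_smul, b.smul_left, b.smul_left, b.smul_right, b.smul_right, h]

/-- **orthonormal frames** -/
theorem fiveBV_frame [Finite K] (b : Cl K V) (hU : b.IsU) (v : Module.Basis (Fin n) K V)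
    (hv : ∀ i j, b.B (v i) (v j) = if i = j then 1 else 0) (hn : 3 ≤ n) (h34 : n = 3 → Nat.card K ≠ 4)
    (G : Subgroup (Equiv.Perm V)) (hG : G ≤ Sim b)
    (hfr : ∀ g ∈ G, ∃ (π : Equiv.Perm (Fin n)) (D : Fin n → K), ∀ i, g (v i) = D i • v (π i)) : FiveBV b G := by
  obtain ⟨X, hX, hdet, hr⟩ := exists_rigid' b.invol hU.1 hn h34
  have hu : ∀ r, IsUnit (X r).det := fun r => by rw [hdet]; exact isUnit_one
  have hx : ∀ r w, Matrix.toLinearEquiv v (X r) (hu r) w = Matrix.toLin v v (X r) w := fun r w => rfl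
  have hxv : ∀ r j, Matrix.toLinearEquiv v (X r) (hu r) (v j) = ∑ i, X r i j • v i := fun r j => by
    rw [hx, Matrix.toLin_self]
  have hiso : ∀ r w w', b.B (Matrix.toLinearEquiv v (X r) (hu r) w) (Matrix.toLinearEquiv v (X r) (hu r) w') =
      b.B w w' := by
    intro r w w'
    refine isom_of_basis b v (Matrix.toLin v v (X r)) (fun i j => ?_) w w'
    rw [Matrix.toLin_self, Matrix.toLin_self, B_comb b hv, (hX r).col, hv]
  refine ⟨fun r => Matrix.toLinearEquiv v (X r) (hu r), fun r => ?_, hiso, fun g hg hgi => ?_⟩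
  · have : ((Matrix.toLinearEquiv v (X r) (hu r) : V ≃ₗ[K] V) : V →ₗ[K] V) = Matrix.toLin v v (X r) :=
      LinearMap.ext fun w => rfl
    rw [this, LinearMap.det_toLin, hdet]
  obtain ⟨σ, μ, hs⟩ := hG hg
  obtain ⟨π, D, hD⟩ := hfr g hg
  have hDμ : ∀ i, D i * b.τ (D i) = μ := by
    intro i
    have h1 := hs.form (v i) (v i)
    rw [hD, b.smul_left, b.smul_right, hv, if_pos rfl, mul_one, hv, if_pos rfl, map_one, mul_one] at h1
    exact h1
  have hD0 : ∀ i, D i ≠ 0 := fun i h => by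
    have h1 := hDμ i
    rw [h, zero_mul] at h1
    exact hs.ne h1.symm
  obtain ⟨q, -, -, hq⟩ := exists_q b.τ b.invol hU.1
  have hcomm : ∀ a, b.τ (σ a) = σ (b.τ a) := fun a => by rw [hq, hq, map_pow]
  have hMon : Mon fun i j => D i * (D j)⁻¹ :=
    { ne := fun i j => mul_ne_zero (hD0 i) (inv_ne_zero (hD0 j))
      mul := fun i j k => by
        have := hD0 j
        field_simp }
  have hCmp : ∀ r, Cmp b.τ (X r) π (σ : K →+* K) fun i j => D i * (D j)⁻¹ := by
    intro r
    have h1 := hgi r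
    set x := Matrix.toLinearEquiv v (X r) (hu r) with hxdef
    set g' : Equiv.Perm V := (x.toEquiv : Equiv.Perm V) * g * (x.toEquiv : Equiv.Perm V)⁻¹ with hg'
    obtain ⟨π', D', hD'⟩ := hfr g' h1
    have hg'x : ∀ w, g' (x w) = x (g w) := by
      intro w
      have : (x.toEquiv : Equiv.Perm V)⁻¹ (x w) = w := x.symm_apply_apply w
      change x (g ((x.toEquiv : Equiv.Perm V)⁻¹ (x w))) = x (g w)
      rw [this]
    have hs' : IsSim b g' σ μ :=
      { ne := hs.ne
        add := fun w w' => by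
          obtain ⟨y, rfl⟩ := x.surjective w
          obtain ⟨y', rfl⟩ := x.surjective w'
          rw [← map_add, hg'x, hg'x, hg'x, hs.add, map_add]
        smul := fun a w => by
          obtain ⟨y, rfl⟩ := x.surjective w
          rw [← map_smul, hg'x, hg'x, hs.smul, map_smul]
        form := fun w w' => by
          obtain ⟨y, rfl⟩ := x.surjective w
          obtain ⟨y', rfl⟩ := x.surjective w'
          rw [hg'x, hg'x, hiso, hs.form, hiso] }
    have hD'μ : ∀ i, D' i * b.τ (D' i) = μ := by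
      intro i
      have h1 := hs'.form (v i) (v i)
      rw [hD', b.smul_left, b.smul_right, hv, if_pos rfl, mul_one, hv, if_pos rfl, map_one, mul_one] at h1
      exact h1
    have key : ∀ i j, σ (X r i j) * D' i = D j * X r (π' i) (π j) := by
      intro i j
      have h2 : g' (x (v j)) = x (g (v j)) := hg'x _
      rw [hD, map_smul, hxv, hxv, hs'.map_sum] at h2
      have h3 := congrArg (fun w => b.B w (v (π' i))) h2
      beta_reduce at h3
      rw [B_sum_left, b.smul_left, B_sum_left, Finset.sum_eq_single i, Finset.sum_eq_single (π' i)] at h3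
      · rw [hs'.smul, hD', b.smul_left, b.smul_left, b.smul_left, hv, if_pos rfl, mul_one, mul_one] at h3
        exact h3
      · intro k _ hk
        rw [b.smul_left, hv, if_neg hk, mul_zero]
      · intro h; exact absurd (Finset.mem_univ _) h
      · intro k _ hk
        rw [hs'.smul, hD', b.smul_left, b.smul_left, hv, if_neg (fun h => hk (π'.injective h)), mul_zero, mul_zero]
      · intro h; exact absurd (Finset.mem_univ _) h
    refine ⟨π', fun j a c => ?_⟩
    have e1 := key j c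
    have e2 := congrArg b.τ (key j a)
    rw [map_mul, map_mul, hcomm] at e2
    have e3 := hD'μ j
    have e4 := hDμ a
    have h5 := hD0 c
    change D a * (D c)⁻¹ * σ (b.τ (X r j a) * X r j c) = _
    rw [map_mul]
    have h6 : D a * (σ (b.τ (X r j a)) * σ (X r j c)) * μ =
        D c * (b.τ (X r (π' j) (π a)) * X r (π' j) (π c)) * μ := by
      linear_combination (D a * (σ (b.τ (X r j a)) * σ (X r j c))) * (-1 : K) * e3 +
        (D a * b.τ (D' j) * σ (b.τ (X r j a))) * e1 + (D a * (D c * X r (π' j) (π c))) * e2 +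
        (D c * (b.τ (X r (π' j) (π a)) * X r (π' j) (π c))) * e4
    have h7 := mul_right_cancel₀ hs.ne h6
    field_simp
    linear_combination h7
  obtain ⟨h1, h2, h3⟩ := hr π σ _ hMon hCmp
  have i0 : Fin n := ⟨0, by omega⟩
  refine ⟨Units.mk0 (D i0) (hD0 i0), Equiv.ext fun w => ?_⟩
  rw [hm_apply]
  change g w = D i0 • w
  have hσ : ∀ a, σ a = a := fun a => congrArg (fun f : K →+* K => f a) h2
  have hDi : ∀ i, D i = D i0 := fun i => by
    have h4 := h3 i i0
    have := hD0 i0
    field_simp at h4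
    exact h4
  conv_lhs => rw [← v.sum_repr w]
  conv_rhs => rw [← v.sum_repr w]
  rw [hs.map_sum, Finset.smul_sum]
  refine Finset.sum_congr rfl fun i _ => ?_
  rw [hs.smul, hσ, hD, h1, Equiv.Perm.coe_one, id_eq, hDi, smul_comm]

/-- an orthonormal basis adapted to a family of self-adjoint idempotents of rank 1 -/
theorem exists_onb [Finite K] [Module.Finite K V] (b : Cl K V) (hU : b.IsU) {e : Fin n → R K V}
    (he : CompleteOrthogonalIdempotents e) (had : ∀ i, b.Adj (e i) (e i))
    (hrk : ∀ i, Module.finrank K (LinearMap.range (e i)) = 1) :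
    ∃ v : Module.Basis (Fin n) K V, (∀ i j, b.B (v i) (v j) = if i = j then 1 else 0) ∧
      ∀ i w, ∃ c : K, e i w = c • v i := by
  have hmul : ∀ i j w, i ≠ j → e i (e j w) = 0 := fun i j w hij => by
    have := he.ortho hij
    have h1 := congrArg (fun f : R K V => f w) this
    exact h1
  have hidem : ∀ i w, e i (e i w) = e i w := fun i w => by
    have := he.idem i
    have h1 := congrArg (fun f : R K V => f w) this.eq
    exact h1
  have hsum : ∀ w, ∑ i, e i w = w := fun w => by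
    have h1 := congrArg (fun f : R K V => f w) he.complete
    simpa using h1
  have h1 : ∀ i, ∃ u : V, u ≠ 0 ∧ e i u = u ∧ ∀ w, ∃ c : K, e i w = c • u := by
    intro i
    obtain ⟨⟨u, hu⟩, hu0, hspan⟩ := finrank_eq_one_iff'.1 (hrk i)
    refine ⟨u, fun h => hu0 (Subtype.ext h), ?_, fun w => ?_⟩
    · obtain ⟨y, rfl⟩ := hu
      exact hidem i y
    · obtain ⟨c, hc⟩ := hspan ⟨e i w, ⟨w, rfl⟩⟩
      exact ⟨c, (congrArg Subtype.val hc).symm⟩
  choose u hu0 hue hus using h1
  have horth : ∀ i j, i ≠ j → b.B (u i) (u j) = 0 := fun i j hij => by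
    rw [← hue i, had i, ← hue j, hmul i j _ hij, B_zero_right]
  have hself : ∀ i, b.B (u i) (u i) ≠ 0 := by
    intro i h
    apply hu0 i
    refine b.nondeg _ fun w => ?_
    rw [← hue i, had i]
    obtain ⟨c, hc⟩ := hus i w
    rw [hc, b.smul_right, h, mul_zero]
  have h2 : ∀ i, ∃ y : K, y * b.τ y = (b.B (u i) (u i))⁻¹ := fun i =>
    exists_norm b.τ b.invol hU.1 (inv_ne_zero (hself i)) (by rw [map_inv₀, ← hU.2])
  choose y hy using h2
  have hy0 : ∀ i, y i ≠ 0 := fun i h => by
    have := hy i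
    rw [h, zero_mul] at this
    exact inv_ne_zero (hself i) this.symm
  let v : Fin n → V := fun i => y i • u i
  have hv : ∀ i j, b.B (v i) (v j) = if i = j then 1 else 0 := by
    intro i j
    change b.B (y i • u i) (y j • u j) = _
    rw [b.smul_left, b.smul_right]
    by_cases hij : i = j
    · subst hij
      rw [if_pos rfl, ← mul_assoc, hy, inv_mul_cancel₀ (hself i)]
    · rw [if_neg hij, horth i j hij, mul_zero, mul_zero]
  have hvs : ∀ i w, ∃ c : K, e i w = c • v i := by
    intro i w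
    obtain ⟨c, hc⟩ := hus i w
    refine ⟨c * (y i)⁻¹, ?_⟩
    change e i w = (c * (y i)⁻¹) • y i • u i
    rw [hc, smul_smul, mul_assoc, inv_mul_cancel₀ (hy0 i), mul_one]
  have hli : LinearIndependent K v := by
    rw [Fintype.linearIndependent_iff]
    intro f hf i
    have h3 : b.B (∑ j, f j • v j) (v i) = 0 := by rw [hf, B_zero_left]
    rw [B_sum_left, Finset.sum_eq_single i] at h3
    · rwa [b.smul_left, hv, if_pos rfl, mul_one] at h3
    · intro j _ hj
      rw [b.smul_left, hv, if_neg hj, mul_zero]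
    · intro h; exact absurd (Finset.mem_univ _) h
  have hsp : ⊤ ≤ Submodule.span K (Set.range v) := by
    intro w _
    rw [← hsum w]
    refine Submodule.sum_mem _ fun i _ => ?_
    obtain ⟨c, hc⟩ := hvs i w
    rw [hc]
    exact Submodule.smul_mem _ _ (Submodule.subset_span ⟨i, rfl⟩)
  refine ⟨Module.Basis.mk hli hsp, fun i j => ?_, fun i w => ?_⟩
  · rw [Module.Basis.mk_apply, Module.Basis.mk_apply, hv]
  · rw [Module.Basis.mk_apply]
    exact hvs i w

/-- **[B-C2U1]** -/
theorem fiveB_frame [Finite K] [Module.Finite K V] (b : Cl K V) (hU : b.IsU) (hb : b.Big)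
    {S : Subgroup (Equiv.Perm (R K V))} (hS : S ≤ RB b) {e : Fin n → R K V}
    (he : CompleteOrthogonalIdempotents e) (had : ∀ i, b.Adj (e i) (e i))
    (hrk : ∀ i, Module.finrank K (LinearMap.range (e i)) = 1)
    (hp : ∀ f ∈ S, ∃ π : Equiv.Perm (Fin n), ∀ i, f (e i) = e (π i)) : FiveB b S := by
  obtain ⟨v, hv, hvs⟩ := exists_onb b hU he had hrk
  have hfr : Module.finrank K V = n := by
    rw [Module.finrank_eq_card_basis v, Fintype.card_fin]
  have hb' : 3 ≤ n ∧ (n = 3 → Nat.card K ≠ 4) := by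
    rcases hb with h | h
    · rw [hfr] at h
      exact h.2
    · exact absurd h.1 (H786.FC.not_isSp_of_isU hU)
  have : Nontrivial V := Module.nontrivial_of_finrank_pos (R := K) (by omega)
  refine fiveB_of_up hS (fiveBV_frame b hU v hv hb'.1 hb'.2 (up S) (up_le_Sim hS) fun g hg => ?_)
  have hg' := up_le S hg
  obtain ⟨π, hπ⟩ := hp _ ((mem_up hg').1 hg)
  have h1 : ∀ i, ∃ c : K, g (v i) = c • v (π i) := by
    intro i
    have h2 := Ph_apply' ⟨g, hg'⟩ (e i) (v i)
    rw [hπ i] at h2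
    change e (π i) (g (v i)) = g (e i (v i)) at h2
    have h3 : e i (v i) = v i := by
      have hsum : ∑ j, e j (v i) = v i := by
        have h1 := congrArg (fun f : R K V => f (v i)) he.complete
        simpa using h1
      have h4 : ∀ j, j ≠ i → e j (v i) = 0 := by
        intro j hj
        obtain ⟨c, hc⟩ := hvs j (v i)
        obtain ⟨c', hc'⟩ := hvs j (v j)
        have h5 : b.B (e j (v i)) (v j) = b.B (v i) (e j (v j)) := had j _ _
        rw [hc, hc', b.smul_left, b.smul_right, hv, hv, if_pos rfl, if_neg (Ne.symm hj), mul_zero, mul_one] at h5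
        rw [hc, h5, zero_smul]
      rw [Finset.sum_eq_single i (fun j _ hj => h4 j hj) (fun h => absurd (Finset.mem_univ _) h)] at hsum
      exact hsum
    rw [h3] at h2
    rw [← h2]
    exact hvs _ _
  choose D hD using h1
  exact ⟨π, D, hD⟩

theorem stmtBC2U1 : H786.FC.StmtBC2On.{u, v} true fun d => d = 1 := by
  intro K _ _ V _ _ _ b hk hb S hS _ k d e hd _ _ he had hrk hp
  subst hd
  exact fiveB_frame b (hk.1 rfl) hb hS he had hrk hp

end frame

end Cfsg.Agent.H324.FC
end

-- part: H5/FC/Core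
section
/-!
# S5764 [B-PAR]: the stabilizer of a totally isotropic subspace, core of the proof (helper5)
-/

set_option autoImplicit false
set_option linter.unusedSectionVars false

namespace Cfsg.Agent.H5.FC

open Cfsg.Agent.H198.FC Cfsg.Agent.H412.FC

universe u v

variable {K : Type u} [Field K] {V : Type v} [AddCommGroup V] [Module K V]
variable {b : Cl K V} {ε : K} {l : ℕ} {e f : Fin (l + 1) → V}

namespace Hy

theorem map_x {ζ : K} (hζ : ζ ≠ 0) {x : V ≃ₗ[K] V} (hx : ∀ j, x (e j) = -(ζ⁻¹ • f (Fin.rev j))) :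
    (Submodule.span K (Set.range e)).map (x : V →ₗ[K] V) = Submodule.span K (Set.range f) := by
  apply le_antisymm
  · rw [Submodule.map_span, Submodule.span_le]
    rintro _ ⟨_, ⟨j, rfl⟩, rfl⟩
    change x (e j) ∈ _
    rw [hx]
    exact Submodule.neg_mem _ (Submodule.smul_mem _ _ (Submodule.subset_span ⟨_, rfl⟩))
  · rw [Submodule.span_le]
    rintro _ ⟨j, rfl⟩
    refine ⟨-(ζ • e (Fin.rev j)), Submodule.neg_mem _ (Submodule.smul_mem _ _ (Submodule.subset_span ⟨_, rfl⟩)), ?_⟩
    change x _ = _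
    rw [map_neg, map_smul, hx, Fin.rev_rev, smul_neg, neg_neg, smul_smul, mul_inv_cancel₀ hζ, one_smul]

theorem map_mem {A F : Submodule K V} {x : V ≃ₗ[K] V} (hx : A.map (x : V →ₗ[K] V) = F) {g g1 : Equiv.Perm V}
    (h1 : ∀ u, x (g1 u) = g (x u)) (hA : ∀ a ∈ A, g1 a ∈ A) : ∀ c ∈ F, g c ∈ F := by
  intro c hc
  rw [← hx] at hc ⊢
  obtain ⟨a, ha, rfl⟩ := hc
  exact ⟨g1 a, hA a ha, h1 a⟩

variable (H : Hy b ε l e f)
include H

/-- `v` commutes with `g` -/
theorem comm_core {g : Equiv.Perm V} {σ : K ≃+* K} {μ : K} (hs : IsSim b g σ μ)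
    (gA : ∀ a ∈ Submodule.span K (Set.range e), g a ∈ Submodule.span K (Set.range e))
    (gA' : ∀ a ∈ Submodule.span K (Set.range e), g.symm a ∈ Submodule.span K (Set.range e))
    (gF : ∀ a ∈ Submodule.span K (Set.range f), g a ∈ Submodule.span K (Set.range f))
    (gF' : ∀ a ∈ Submodule.span K (Set.range f), g.symm a ∈ Submodule.span K (Set.range f))
    {v : V ≃ₗ[K] V} (iv : ∀ u w, b.B (v u) (v w) = b.B u w)
    (vA : ∀ a ∈ Submodule.span K (Set.range e), v a = a)
    (vY : ∀ w, (∀ j, b.B w (e j) = 0) → v w - w ∈ Submodule.span K (Set.range e))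
    (hF : ∀ c ∈ Submodule.span K (Set.range f), v.symm (g (v c)) ∈ Submodule.span K (Set.range f)) :
    ∀ u, g (v u) = v (g u) := by
  have hA : ∀ a ∈ Submodule.span K (Set.range e), v.symm (g (v a)) = g a := fun a ha => by
    rw [vA a ha, LinearEquiv.symm_apply_eq, vA _ (gA a ha)]
  have hB : ∀ u w, b.B (v.symm (g (v u))) (v.symm (g (v w))) = μ * σ (b.B u w) := fun u w => by
    rw [← iv (v.symm _) (v.symm _), v.apply_symm_apply, v.apply_symm_apply, hs.form, iv]
  have hc : ∀ c ∈ Submodule.span K (Set.range f), v.symm (g (v c)) = g c := by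
    intro c hc
    rw [← sub_eq_zero]
    refine H.eq_zero_f (Submodule.sub_mem _ (hF c hc) (gF c hc)) fun i => ?_
    have he : g.symm (e i) ∈ Submodule.span K (Set.range e) := gA' _ (Submodule.subset_span ⟨i, rfl⟩)
    have h1 := hB c (g.symm (e i))
    have h2 := hs.form c (g.symm (e i))
    rw [hA _ he, g.apply_symm_apply] at h1
    rw [g.apply_symm_apply] at h2
    rw [B_sl, h1, h2, sub_self]
  have hw : ∀ w, InY b e f w → v.symm (g (v w)) = g w := by
    intro w hw
    rw [← sub_eq_zero]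
    refine H.eq_zero_e ?_ fun i => ?_
    · have h1 := vY w hw.e
      have h2 : ∀ j, b.B (g w) (e j) = 0 := by
        intro j
        have := hs.form w (g.symm (e j))
        rw [g.apply_symm_apply] at this
        rw [this, perp_span hw.e (gA' _ (Submodule.subset_span ⟨j, rfl⟩)), map_zero, mul_zero]
      have h3 := vY _ h2
      have h4 : g (v w) = g w + g (v w - w) := by rw [← hs.add, add_sub_cancel]
      have h5 : v.symm (g (v w)) - g w = g (v w - w) - (v (g w) - g w) := by
        apply v.injective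
        rw [map_sub, v.apply_symm_apply, map_sub, vA _ (gA _ h1), vA _ h3, h4]
        abel
      rw [h5]
      exact Submodule.sub_mem _ (gA _ h1) h3
    · have hf : g.symm (f i) ∈ Submodule.span K (Set.range f) := gF' _ (Submodule.subset_span ⟨i, rfl⟩)
      have h1 := hB w (g.symm (f i))
      have h2 := hs.form w (g.symm (f i))
      rw [hc _ hf, g.apply_symm_apply] at h1
      rw [g.apply_symm_apply] at h2
      rw [B_sl, h1, h2, sub_self]
  intro u
  have h : v.symm (g (v u)) = g u := by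
    obtain ⟨y, hy, hu⟩ := H.exists_dec u
    obtain ⟨a, ha, c, hc', hu⟩ : ∃ a ∈ Submodule.span K (Set.range e), ∃ c ∈ Submodule.span K (Set.range f),
        u = a + y + c := ⟨_, Submodule.sum_mem _ fun i _ => Submodule.smul_mem _ _ (Submodule.subset_span ⟨i, rfl⟩), _,
          Submodule.sum_mem _ fun i _ => Submodule.smul_mem _ _ (Submodule.subset_span ⟨i, rfl⟩), hu⟩
    have e1 : v (a + y + c) = v a + v y + v c := by rw [map_add, map_add]
    have e2 : g (v a + v y + v c) = g (v a) + g (v y) + g (v c) := by rw [hs.add, hs.add]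
    rw [hu, e1, e2, map_add, map_add, hA a ha, hw y hy, hc c hc', hs.add, hs.add]
  rwa [LinearEquiv.symm_apply_eq] at h

/-- the rigid triple -/
theorem rigid_core {g : Equiv.Perm V} {σ : K ≃+* K} {μ : K} (hs : IsSim b g σ μ)
    (gF : ∀ a ∈ Submodule.span K (Set.range f), g a ∈ Submodule.span K (Set.range f))
    {m : Fin 3 → Fin (l + 1) → Fin (l + 1) → K} (T : Trip b.τ ε l m)
    (hR : ∀ t j, g (Rm b ε e (m t) (f j)) = Rm b ε e (m t) (g (f j))) :
    (1 ≤ l → σ = RingEquiv.refl K) ∧ ∃ c : K, c ≠ 0 ∧ ∀ j, g (f j) = c • f j := by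
  have hne : ∃ i, ε * b.B (g (f 0)) (e i) ≠ 0 := by
    by_contra hcon
    push Not at hcon
    have hε : ε ≠ 0 := fun h => by
      have := H.kind.sq
      rw [h, zero_mul] at this
      exact zero_ne_one this
    have h1 : g (f 0) = 0 := H.eq_zero_f (gF _ (Submodule.subset_span ⟨0, rfl⟩)) fun i =>
      (mul_eq_zero.1 (hcon i)).resolve_left hε
    have h2 : f 0 = 0 := by
      apply g.injective
      rw [h1, hs.map_zero]
    have h3 := H.ef 0 0
    rw [h2, B_zr, if_pos rfl] at h3
    exact zero_ne_one h3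
  obtain ⟨h1, c, hc⟩ := T.rig σ (fun i j => ε * b.B (g (f j)) (e i)) (fun i k => b.B (g (e k)) (f i)) hne (by
    intro t i j
    have h1 := congrArg (fun u => b.B u (f i)) (hR t j)
    rw [H.Rm_f, hs.map_sum, B_suml, B_Rm_left] at h1
    calc ∑ k, σ (m t j k) * b.B (g (e k)) (f i) = ∑ k, b.B (g (m t j k • e k)) (f i) := by
          refine Finset.sum_congr rfl fun k _ => ?_
          rw [hs.smul, b.smul_left]
      _ = ∑ s, ∑ k, (ε * b.B (g (f j)) (e s)) * m t s k * b.B (e k) (f i) := h1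
      _ = _ := by
          refine Finset.sum_congr rfl fun s _ => ?_
          rw [Finset.sum_eq_single i]
          · rw [H.ef, if_pos rfl, mul_one]
          · intro k _ hk
            rw [H.ef, if_neg hk, mul_zero]
          · intro h; exact absurd (Finset.mem_univ _) h)
  refine ⟨h1, c, ?_, fun j => ?_⟩
  · rintro rfl
    obtain ⟨i, hi⟩ := hne
    apply hi
    rw [hc i 0, ite_self]
  · rw [H.mem_f (gF _ (Submodule.subset_span ⟨j, rfl⟩)), Finset.sum_eq_single j]
    · rw [hc, if_pos rfl]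
    · intro i _ hi
      rw [hc, if_neg hi, zero_smul]
    · intro h; exact absurd (Finset.mem_univ _) h

theorem on_A {g : Equiv.Perm V} {μ : K} (hs : IsSim b g (RingEquiv.refl K) μ)
    (gA : ∀ a ∈ Submodule.span K (Set.range e), g a ∈ Submodule.span K (Set.range e)) {c : K} (hc : c ≠ 0)
    (hf : ∀ j, g (f j) = c • f j) : ∀ a ∈ Submodule.span K (Set.range e), g a = (μ * (b.τ c)⁻¹) • a := by
  intro a ha
  rw [← sub_eq_zero]
  refine H.eq_zero_e (Submodule.sub_mem _ (gA a ha) (Submodule.smul_mem _ _ ha)) fun i => ?_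
  have h1 := hs.form a (f i)
  rw [hf, b.smul_right] at h1
  have hτ : b.τ c ≠ 0 := (map_ne_zero b.τ).2 hc
  rw [B_sl, b.smul_left, sub_eq_zero]
  change b.τ c * b.B (g a) (f i) = μ * b.B a (f i) at h1
  apply mul_left_cancel₀ hτ
  rw [h1]
  field_simp

theorem ext_scalar {g : Equiv.Perm V} {μ : K} (hs : IsSim b g (RingEquiv.refl K) μ) {c : K}
    (hA : ∀ a ∈ Submodule.span K (Set.range e), g a = c • a) (hY : ∀ w, InY b e f w → g w = c • w)
    (hf : ∀ j, g (f j) = c • f j) : ∀ u, g u = c • u := by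
  intro u
  obtain ⟨y, hy, hu⟩ := H.exists_dec u
  obtain ⟨d, hd⟩ : ∃ d : Fin (l + 1) → K, d = fun i => ε * b.B u (e i) := ⟨_, rfl⟩
  have hu' : u = (∑ i, b.B u (f i) • e i) + y + ∑ i, d i • f i := by rw [hd]; exact hu
  obtain ⟨a, ha, hu⟩ : ∃ a ∈ Submodule.span K (Set.range e), u = a + y + ∑ i, d i • f i := ⟨_,
    Submodule.sum_mem _ fun i _ => Submodule.smul_mem _ _ (Submodule.subset_span ⟨i, rfl⟩), hu'⟩
  rw [hu, hs.add, hs.add, hA a ha, hY y hy, hs.map_sum, smul_add, smul_add, Finset.smul_sum]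
  congr 1
  refine Finset.sum_congr rfl fun i _ => ?_
  rw [hs.smul, hf, smul_comm]
  rfl

omit H in
theorem InY.sub {v w : V} (hv : InY b e f v) (hw : InY b e f w) : InY b e f (v - w) :=
  ⟨fun j => by rw [B_sl, hv.e, hw.e, sub_zero], fun j => by rw [B_sl, hv.f, hw.f, sub_zero]⟩

omit H in
theorem InY.smul {w : V} (c : K) (hw : InY b e f w) : InY b e f (c • w) :=
  ⟨fun j => by rw [b.smul_left, hw.e, mul_zero], fun j => by rw [b.smul_left, hw.f, mul_zero]⟩

omit H in
theorem InY.map {g : Equiv.Perm V} {σ : K ≃+* K} {μ : K} (hs : IsSim b g σ μ)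
    (gA' : ∀ a ∈ Submodule.span K (Set.range e), g.symm a ∈ Submodule.span K (Set.range e))
    (gF' : ∀ a ∈ Submodule.span K (Set.range f), g.symm a ∈ Submodule.span K (Set.range f))
    {w : V} (hw : InY b e f w) : InY b e f (g w) := by
  refine ⟨fun j => ?_, fun j => ?_⟩
  · have := hs.form w (g.symm (e j))
    rw [g.apply_symm_apply] at this
    rw [this, perp_span hw.e (gA' _ (Submodule.subset_span ⟨j, rfl⟩)), map_zero, mul_zero]
  · have := hs.form w (g.symm (f j))
    rw [g.apply_symm_apply] at this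
    rw [this, perp_span hw.f (gF' _ (Submodule.subset_span ⟨j, rfl⟩)), map_zero, mul_zero]

theorem InY.eq_zero {w : V} (hw : InY b e f w) (hA : w ∈ Submodule.span K (Set.range e)) : w = 0 :=
  H.eq_zero_e hA hw.f

/-- **case II**: `Y = 0` -/
theorem scalar_two (hl : 1 ≤ l) (hY : ∀ w, InY b e f w → w = 0) {g : Equiv.Perm V} {σ : K ≃+* K} {μ : K}
    (hs : IsSim b g σ μ)
    (gA : ∀ a ∈ Submodule.span K (Set.range e), g a ∈ Submodule.span K (Set.range e))
    (gF : ∀ a ∈ Submodule.span K (Set.range f), g a ∈ Submodule.span K (Set.range f))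
    {m : Fin 3 → Fin (l + 1) → Fin (l + 1) → K} (T : Trip b.τ ε l m)
    (hR : ∀ t j, g (Rm b ε e (m t) (f j)) = Rm b ε e (m t) (g (f j))) : ∃ c : K, c ≠ 0 ∧ ∀ u, g u = c • u := by
  obtain ⟨h1, c, hc, hf⟩ := H.rigid_core hs gF T hR
  obtain rfl := h1 hl
  have hA := H.on_A hs gA hc hf
  refine ⟨c, hc, ?_⟩
  have hm : ∃ t j k, m t j k ≠ 0 := by
    by_contra hcon
    push Not at hcon
    obtain ⟨-, d, hd⟩ := T.rig (RingEquiv.refl K) (fun _ _ => 1) (fun _ _ => 1) ⟨0, one_ne_zero⟩ (by
      intro t i j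
      simp only [hcon, map_zero, zero_mul, mul_zero, Finset.sum_const_zero])
    have h2 := hd 0 (Fin.last l)
    rw [if_neg] at h2
    · exact one_ne_zero h2
    · intro h
      have := congrArg Fin.val h
      rw [Fin.val_last] at this
      have h0 : ((0 : Fin (l + 1)) : ℕ) = 0 := rfl
      omega
  obtain ⟨t, j, k, hm⟩ := hm
  have h3 := hR t j
  rw [hf, map_smul, hA _ (H.Rm_mem _ _)] at h3
  have h4 := congrArg (fun u => b.B u (f k)) h3
  simp only [b.smul_left] at h4
  have h5 : b.B (Rm b ε e (m t) (f j)) (f k) = m t j k := by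
    rw [H.Rm_f, B_suml, Finset.sum_eq_single k]
    · rw [b.smul_left, H.ef, if_pos rfl, mul_one]
    · intro i _ hi
      rw [b.smul_left, H.ef, if_neg hi, mul_zero]
    · intro h; exact absurd (Finset.mem_univ _) h
  rw [h5] at h4
  have h6 := mul_right_cancel₀ hm h4
  rw [h6] at hA
  refine H.ext_scalar hs hA (fun w hw => ?_) hf
  rw [hY w hw, hs.map_zero, smul_zero]

/-- **case I**: `Y ≠ 0` -/
theorem scalar_one {g : Equiv.Perm V} {σ : K ≃+* K} {μ : K} (hs : IsSim b g σ μ)
    (gA : ∀ a ∈ Submodule.span K (Set.range e), g a ∈ Submodule.span K (Set.range e))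
    (gA' : ∀ a ∈ Submodule.span K (Set.range e), g.symm a ∈ Submodule.span K (Set.range e))
    (gF : ∀ a ∈ Submodule.span K (Set.range f), g a ∈ Submodule.span K (Set.range f))
    (gF' : ∀ a ∈ Submodule.span K (Set.range f), g.symm a ∈ Submodule.span K (Set.range f))
    {m : Fin 3 → Fin (l + 1) → Fin (l + 1) → K} (T : Trip b.τ ε l m)
    {y : Fin 3 → V} (hy : ∀ t, InY b e f (y t)) (hy0 : ∃ t, y t ≠ 0) {η : Fin 3 → K}
    (hc : ∀ t u, g (u + Rm b ε e (m t) u + Si b ε (e 0) (y t) (η t) u) =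
      g u + Rm b ε e (m t) (g u) + Si b ε (e 0) (y t) (η t) (g u))
    (hbase : ∀ c : K, c ≠ 0 → (∀ t, g (y t) = c • y t) → ∀ w, InY b e f w → g w = c • w) :
    ∃ c : K, c ≠ 0 ∧ ∀ u, g u = c • u := by
  have hε := H.kind.sq
  have memE : ∀ i, e i ∈ Submodule.span K (Set.range e) := fun i => Submodule.subset_span ⟨i, rfl⟩
  have memF : ∀ i, f i ∈ Submodule.span K (Set.range f) := fun i => Submodule.subset_span ⟨i, rfl⟩
  have fy : ∀ t, ∀ c ∈ Submodule.span K (Set.range f), b.B c (y t) = 0 := fun t c hc' =>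
    span_perp (fun i => by rw [H.sym (y t) (f i), (hy t).f, map_zero, mul_zero]) hc'
  have E : ∀ t j, g (Rm b ε e (m t) (f j)) + g ((ε * b.B (f j) (e 0)) • (y t + η t • e 0)) =
      Rm b ε e (m t) (g (f j)) + (ε * b.B (g (f j)) (e 0)) • (y t + η t • e 0) := by
    intro t j
    have h1 := hc t (f j)
    rw [hs.add, hs.add, Si_apply, Si_apply, fy t _ (memF j), fy t _ (gF _ (memF j)), zero_smul, sub_zero, sub_zero,
      add_assoc, add_assoc] at h1
    exact add_left_cancel h1
  obtain ⟨t0, ht0⟩ := hy0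
  obtain ⟨c, hcd⟩ : ∃ c, c = ε * b.B (g (f 0)) (e 0) := ⟨_, rfl⟩
  have E0 : ∀ t, g (Rm b ε e (m t) (f 0)) + g (y t + η t • e 0) =
      Rm b ε e (m t) (g (f 0)) + c • (y t + η t • e 0) := by
    intro t
    have h1 := E t 0
    rwa [H.fe, if_pos rfl, hε, one_smul, ← hcd] at h1
  have gy : ∀ t, g (y t) = c • y t := by
    intro t
    rw [← sub_eq_zero]
    refine InY.eq_zero H (((hy t).map hs gA' gF').sub ((hy t).smul c)) ?_
    have h1 := E0 t
    rw [hs.add, smul_add] at h1
    have h2 : g (y t) - c • y t = Rm b ε e (m t) (g (f 0)) + c • η t • e 0 - g (Rm b ε e (m t) (f 0)) -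
        g (η t • e 0) := by
      have h3 : g (y t) = Rm b ε e (m t) (g (f 0)) + (c • y t + c • η t • e 0) - g (Rm b ε e (m t) (f 0)) -
        g (η t • e 0) := by rw [← h1]; abel
      rw [h3]; abel
    rw [h2]
    refine Submodule.sub_mem _ (Submodule.sub_mem _ (Submodule.add_mem _ (H.Rm_mem _ _) ?_) (gA _ (H.Rm_mem _ _))) ?_
    · exact Submodule.smul_mem _ _ (Submodule.smul_mem _ _ (memE 0))
    · exact gA _ (Submodule.smul_mem _ _ (memE 0))
  have d0 : ∀ j, j ≠ 0 → b.B (g (f j)) (e 0) = 0 := by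
    intro j hj
    have h1 := E t0 j
    rw [H.fe, if_neg hj, mul_zero, zero_smul, hs.map_zero, add_zero] at h1
    have h2 : (ε * b.B (g (f j)) (e 0)) • y t0 = g (Rm b ε e (m t0) (f j)) - Rm b ε e (m t0) (g (f j)) -
        (ε * b.B (g (f j)) (e 0)) • η t0 • e 0 := by
      rw [h1, smul_add]; abel
    have h3 : (ε * b.B (g (f j)) (e 0)) • y t0 = 0 := by
      refine InY.eq_zero H ((hy t0).smul _) ?_
      rw [h2]
      exact Submodule.sub_mem _ (Submodule.sub_mem _ (gA _ (H.Rm_mem _ _)) (H.Rm_mem _ _))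
        (Submodule.smul_mem _ _ (Submodule.smul_mem _ _ (memE 0)))
    have h4 := (smul_eq_zero.1 h3).resolve_right ht0
    have h5 : ε ≠ 0 := fun h => by rw [h, zero_mul] at hε; exact zero_ne_one hε
    exact (mul_eq_zero.1 h4).resolve_left h5
  have hc0 : c ≠ 0 := by
    intro h
    apply ht0
    apply g.injective
    rw [gy, h, zero_smul, hs.map_zero]
  have gY := hbase c hc0 gy
  have hσ : σ = RingEquiv.refl K := by
    ext a
    have h1 := gY _ ((hy t0).smul a)
    rw [hs.smul, gy, smul_smul, smul_smul] at h1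
    have h2 := smul_left_injective K ht0 h1
    have h3 : c * σ a = c * a := by rw [mul_comm]; exact h2
    exact mul_left_cancel₀ hc0 h3
  subst hσ
  have hμ : μ = c * b.τ c := by
    have h1 : ∃ u, b.B (y t0) u ≠ 0 := by
      by_contra hcon
      push Not at hcon
      exact ht0 (b.nondeg _ hcon)
    obtain ⟨u, hu⟩ := h1
    obtain ⟨y', hy', hu'⟩ := H.exists_dec u
    have h2 : b.B (y t0) u = b.B (y t0) y' := by
      conv_lhs => rw [hu']
      rw [b.add_right, b.add_right, perp_span (hy t0).e (Submodule.sum_mem _ fun i _ =>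
        Submodule.smul_mem _ _ (memE i)), perp_span (hy t0).f (Submodule.sum_mem _ fun i _ =>
        Submodule.smul_mem _ _ (memF i)), zero_add, add_zero]
    rw [h2] at hu
    have h3 := hs.form (y t0) y'
    rw [gy, gY y' hy', b.smul_left, b.smul_right] at h3
    change c * (b.τ c * b.B (y t0) y') = μ * b.B (y t0) y' at h3
    apply mul_right_cancel₀ hu
    rw [← h3]; ring
  have ge0 : g (e 0) = c • e 0 := by
    have h1 : ∀ c' ∈ Submodule.span K (Set.range f), b.B (g c') (e 0) = c * b.B c' (e 0) := by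
      intro c' hc'
      have h2 : b.B (g (∑ i, (ε * b.B c' (e i)) • f i)) (e 0) = c * b.B c' (e 0) := by
        rw [hs.map_sum, B_suml, Finset.sum_eq_single 0]
        · rw [hs.smul, b.smul_left, hcd]
          change ε * b.B c' (e 0) * b.B (g (f 0)) (e 0) = _
          ring
        · intro i _ hi
          rw [hs.smul, b.smul_left, d0 i hi, mul_zero]
        · intro h; exact absurd (Finset.mem_univ _) h
      rwa [← H.mem_f hc'] at h2
    rw [← sub_eq_zero]
    refine H.eq_zero_e (Submodule.sub_mem _ (gA _ (memE 0)) (Submodule.smul_mem _ _ (memE 0))) fun i => ?_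
    have h3 := h1 _ (gF' _ (memF i))
    have h4 := hs.form (g.symm (f i)) (e 0)
    rw [g.apply_symm_apply] at h3 h4
    change _ = μ * b.B _ _ at h4
    rw [H.sym (f i) (g (e 0) - c • e 0), B_sr, h4, b.smul_right, h3, hμ]
    have : c * b.τ c * b.B (g.symm (f i)) (e 0) - b.τ c * (c * b.B (g.symm (f i)) (e 0)) = 0 := by ring
    rw [this, map_zero, mul_zero]
  have hR : ∀ t j, g (Rm b ε e (m t) (f j)) = Rm b ε e (m t) (g (f j)) := by
    intro t j
    by_cases hj : j = 0
    · subst hj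
      have h1 := E0 t
      rw [hs.add, gy, hs.smul, ge0, smul_add] at h1
      have h2 : (RingEquiv.refl K) (η t) • c • e 0 = c • η t • e 0 := smul_comm _ _ _
      rw [h2] at h1
      exact add_right_cancel h1
    · have h1 := E t j
      rwa [H.fe, if_neg hj, mul_zero, zero_smul, hs.map_zero, add_zero, d0 j hj, mul_zero, zero_smul, add_zero] at h1
  obtain ⟨-, c', hc', hf⟩ := H.rigid_core hs gF T hR
  have hcc : c' = c := by
    rw [hcd, hf, b.smul_left, H.fe, if_pos rfl]
    linear_combination (-c') * hε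
  subst hcc
  have hA := H.on_A hs gA hc' hf
  have hτ : b.τ c' ≠ 0 := (map_ne_zero b.τ).2 hc'
  have h7 : μ * (b.τ c')⁻¹ = c' := by rw [hμ]; field_simp
  rw [h7] at hA
  exact ⟨c', hc', H.ext_scalar hs hA gY hf⟩

end Hy

/-- **[B-PAR], core** -/
theorem par_core [Finite K] [Module.Finite K V] (H : Hy b ε l e f) {G : Subgroup (Equiv.Perm V)} (hG : G ≤ Sim b)
    (hhom : ∀ a, hm K V a ∈ G)
    (hAG : ∀ g ∈ G, ∀ a ∈ Submodule.span K (Set.range e), g a ∈ Submodule.span K (Set.range e))
    {y : Fin 3 → V} (hy : ∀ t, Hy.InY b e f (y t)) (hY : (∃ t, y t ≠ 0) ∨ (1 ≤ l ∧ ∀ v, Hy.InY b e f v → v = 0))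
    (hbase : ∀ g ∈ G, (∀ t, g (y t) - y t ∈ Submodule.span K (Set.range e)) →
      ∀ v, (∀ j, b.B v (e j) = 0) → g v - v ∈ Submodule.span K (Set.range e)) : FiveBV b G := by
  obtain ⟨ζ, hζ0, hζ⟩ := exists_zeta b.invol H.kind
  obtain ⟨m, T⟩ := exists_trip b.invol H.kind hζ0 hζ l
  obtain ⟨x, dx, ix, hx⟩ := H.exists_x hζ0 hζ
  have hη : ∀ t, ∃ η : K, η + ε * b.τ η + b.B (y t) (y t) = 0 ∧ (y t = 0 → η = 0) := fun t => by
    by_cases ht : y t = 0
    · refine ⟨0, ?_, fun _ => rfl⟩
      rw [ht, B_zl, map_zero, mul_zero, add_zero, add_zero]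
    · obtain ⟨η, hη⟩ := exists_eta b H.kind H.sym (y t)
      exact ⟨η, hη, fun h => absurd h ht⟩
  choose η hη hη0 using hη
  have hv : ∀ t, ∃ z : V ≃ₗ[K] V, LinearMap.det (z : V →ₗ[K] V) = 1 ∧ (∀ v w, b.B (z v) (z w) = b.B v w) ∧
      ∀ v, z v = v + Hy.Rm b ε e (m t) v + Hy.Si b ε (e 0) (y t) (η t) v := fun t =>
    H.exists_v (fun i j => T.skew t i j) (hy t).e (hη t)
  choose v dv iv hv using hv
  have mx := Hy.map_x hζ0 hx
  have dsymm : ∀ z : V ≃ₗ[K] V, LinearMap.det (z : V →ₗ[K] V) = 1 → LinearMap.det (z.symm : V →ₗ[K] V) = 1 := by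
    intro z hz
    have h1 : LinearMap.det (z : V →ₗ[K] V) * LinearMap.det (z.symm : V →ₗ[K] V) = 1 := by
      rw [← map_mul]
      have : (z : V →ₗ[K] V) * (z.symm : V →ₗ[K] V) = 1 := LinearMap.ext fun u => z.apply_symm_apply u
      rw [this, map_one]
    rwa [hz, one_mul] at h1
  have isymm : ∀ z : V ≃ₗ[K] V, (∀ v w, b.B (z v) (z w) = b.B v w) → ∀ v w, b.B (z.symm v) (z.symm w) = b.B v w := by
    intro z hz v w
    rw [← hz, z.apply_symm_apply, z.apply_symm_apply]
  refine ⟨Fin.cons x.symm fun t => (x.trans (v t)).symm, fun i => ?_, fun i => ?_, fun g hg hgi => ?_⟩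
  · refine Fin.cases ?_ (fun t => ?_) i
    · exact dsymm _ dx
    · refine dsymm _ ?_
      rw [LinearEquiv.coe_trans, LinearMap.det_comp, dx, dv, one_mul]
  · refine Fin.cases ?_ (fun t => ?_) i
    · exact isymm _ ix
    · refine isymm _ fun u w => ?_
      change b.B (v t (x u)) (v t (x w)) = _
      rw [iv, ix]
  · obtain ⟨σ, μ, hs⟩ := hG hg
    have gA := hAG g hg
    have gA' : ∀ a ∈ Submodule.span K (Set.range e), g.symm a ∈ Submodule.span K (Set.range e) := hAG g⁻¹ (inv_mem hg)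
    obtain ⟨g1, hg1, h1⟩ : ∃ g1 ∈ G, ∀ u, x (g1 u) = g (x u) := by
      refine ⟨_, hgi 0, fun u => ?_⟩
      change x (x.symm (g (x u))) = _
      rw [x.apply_symm_apply]
    have h1' : ∀ u, x (g1.symm u) = g.symm (x u) := by
      intro u
      rw [Equiv.eq_symm_apply, ← h1, g1.apply_symm_apply]
    have gF := Hy.map_mem mx h1 (hAG g1 hg1)
    have gF' := Hy.map_mem mx h1' (hAG g1⁻¹ (inv_mem hg1))
    have hc : ∀ t u, g (v t u) = v t (g u) := by
      intro t
      obtain ⟨g2, hg2, h2⟩ : ∃ g2 ∈ G, ∀ u, v t (x (g2 u)) = g (v t (x u)) := by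
        refine ⟨_, hgi t.succ, fun u => ?_⟩
        change v t (x ((x.trans (v t)).symm (g (v t (x u))))) = _
        exact (x.trans (v t)).apply_symm_apply _
      have hmem : ∀ w, (∀ j, b.B w (e j) = 0) → v t w - w ∈ Submodule.span K (Set.range e) := by
        intro w hw
        rw [hv, Hy.Si_apply, hw, mul_zero, zero_smul, Hy.Rm_perp _ hw]
        have : w + 0 + (0 - b.B w (y t) • e 0) - w = -(b.B w (y t) • e 0) := by abel
        rw [this]
        exact Submodule.neg_mem _ (Submodule.smul_mem _ _ (Submodule.subset_span ⟨0, rfl⟩))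
      refine H.comm_core hs gA gA' gF gF' (iv t) (fun a ha => ?_) hmem fun c hc => ?_
      · have h3 : ∀ j, b.B a (e j) = 0 := fun j => Hy.span_perp (fun i => H.ee i j) ha
        have h4 : b.B a (y t) = 0 :=
          Hy.span_perp (fun i => by rw [H.sym (y t) (e i), (hy t).e, map_zero, mul_zero]) ha
        rw [hv, Hy.Si_apply, h3, h4, mul_zero, zero_smul, zero_smul, Hy.Rm_perp _ h3]
        abel
      · rw [← mx] at hc ⊢
        obtain ⟨a, ha, rfl⟩ := hc
        refine ⟨g2 a, hAG g2 hg2 a ha, ?_⟩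
        change x (g2 a) = (v t).symm (g (v t (x a)))
        rw [LinearEquiv.eq_symm_apply, h2]
    have hc' : ∀ t u, g (u + Hy.Rm b ε e (m t) u + Hy.Si b ε (e 0) (y t) (η t) u) =
        g u + Hy.Rm b ε e (m t) (g u) + Hy.Si b ε (e 0) (y t) (η t) (g u) := fun t u => by
      rw [← hv, ← hv, hc]
    have hfin : ∃ c : K, c ≠ 0 ∧ ∀ u, g u = c • u := by
      rcases hY with hY | ⟨hl, hY⟩
      · refine H.scalar_one hs gA gA' gF gF' T hy hY hc' fun c hc0 hcy w hw => ?_
        -- the base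
        have hcG : hm K V (Units.mk0 c hc0)⁻¹ * g ∈ G := mul_mem (hhom _) hg
        have h3 := hbase _ hcG (fun t => by
          rw [Equiv.Perm.mul_apply, hm_apply, hcy, smul_smul, Units.val_inv_eq_inv_val, Units.val_mk0,
            inv_mul_cancel₀ hc0, one_smul, sub_self]
          exact zero_mem _) w hw.e
        rw [Equiv.Perm.mul_apply, hm_apply, Units.val_inv_eq_inv_val, Units.val_mk0] at h3
        have h4 : c⁻¹ • g w - w = 0 :=
          Hy.InY.eq_zero H (((hw.map hs gA' gF').smul _).sub hw) h3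
        have h5 := congrArg (fun u => c • u) h4
        simp only [smul_sub, smul_zero, smul_smul, mul_inv_cancel₀ hc0, one_smul] at h5
        exact sub_eq_zero.1 h5
      · refine H.scalar_two hl hY hs gA gF T fun t j => ?_
        have h3 := hc' t (f j)
        have hy0 := hY _ (hy t)
        have hS : ∀ u, Hy.Si b ε (e 0) (y t) (η t) u = 0 := by
          intro u
          rw [Hy.Si_apply, hη0 t hy0, hy0, B_zr, zero_smul, sub_zero, zero_add, smul_zero]
        rw [hS, hS, add_zero, add_zero, hs.add] at h3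
        exact add_left_cancel h3
    obtain ⟨c, hc0, hcu⟩ := hfin
    refine ⟨Units.mk0 c hc0, ?_⟩
    ext u
    rw [hcu, hm_apply, Units.val_mk0]


end Cfsg.Agent.H5.FC
end

-- part: H754/FC/HypEx
section
/-!
# S5764 [B-PAR]: L1, hyperbolic pairs adapted to a totally isotropic subspace (helper754)
-/

set_option autoImplicit false

namespace Cfsg.Agent.H754.FC

open Cfsg.Agent.H198.FC Cfsg.Agent.H5.FC

universe u v

section

variable {K : Type u} [Field K] {V : Type v} [AddCommGroup V] [Module K V] (b : Cl K V)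

/-- vectors dual to a linearly independent family -/
theorem exists_dual {n : ℕ} {e : Fin n → V} (he : LinearIndependent K e) :
    ∃ g : Fin n → V, ∀ i j, b.B (g j) (e i) = if i = j then 1 else 0 := by
  classical
  let Φ : V →ₗ[K] (Fin n → K) :=
    { toFun := fun v i => b.B v (e i)
      map_add' := fun v w => funext fun i => b.add_left v w (e i)
      map_smul' := fun c v => funext fun i => b.smul_left c v (e i) }
  have hΦ : ∀ v i, Φ v i = b.B v (e i) := fun _ _ => rfl
  have hsurj : LinearMap.range Φ = ⊤ := by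
    by_contra hne
    obtain ⟨φ, hφ0, hφ⟩ := Submodule.exists_le_ker_of_lt_top _ (lt_top_iff_ne_top.2 hne)
    have hsum : ∀ x : Fin n → K, φ x = ∑ i, x i * φ (Pi.single i 1) := by
      intro x
      conv_lhs => rw [pi_eq_sum_univ' x]
      rw [map_sum]
      refine Finset.sum_congr rfl fun i _ => ?_
      rw [map_smul, smul_eq_mul]
    obtain ⟨ε, hk, hs⟩ := exists_eps b
    have h1 : ∀ v, b.B v (∑ i, b.τ (φ (Pi.single i 1)) • e i) = 0 := by
      intro v
      rw [B_sumr]
      have h2 : φ (Φ v) = 0 := hφ ⟨v, rfl⟩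
      rw [hsum] at h2
      rw [← h2]
      refine Finset.sum_congr rfl fun i _ => ?_
      rw [b.smul_right, b.invol, hΦ, mul_comm]
    have h2 : ∑ i, b.τ (φ (Pi.single i 1)) • e i = 0 := by
      refine b.nondeg _ fun w => ?_
      rw [hs w, h1, map_zero, mul_zero]
    have h3 := Fintype.linearIndependent_iff.1 he _ h2
    apply hφ0
    apply LinearMap.ext
    intro x
    rw [hsum, LinearMap.zero_apply]
    refine Finset.sum_eq_zero fun i _ => ?_
    rw [(map_eq_zero b.τ).1 (h3 i), mul_zero]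
  choose g hg using fun j : Fin n => LinearMap.range_eq_top.1 hsurj (Pi.single j 1)
  refine ⟨g, fun i j => ?_⟩
  rw [← hΦ, hg, Pi.single_apply]

/-- **hyperbolic pairs** -/
theorem exists_hyp [Finite K] [Module.Finite K V] {A : Submodule K V} (hA : A ≠ ⊥) (hTI : b.TI A) :
    ∃ (ε : K) (l : ℕ) (e f : Fin (l + 1) → V), Hy b ε l e f ∧ Submodule.span K (Set.range e) = A := by
  classical
  obtain ⟨ε, hk, hs⟩ := exists_eps b
  have hε := hk.sq
  obtain ⟨l, hl⟩ : ∃ l, Module.finrank K A = l + 1 := by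
    refine Nat.exists_eq_succ_of_ne_zero fun h => hA ?_
    rwa [Submodule.finrank_eq_zero] at h
  let B := Module.finBasisOfFinrankEq K A hl
  let e : Fin (l + 1) → V := fun i => (B i : V)
  have he : LinearIndependent K e := B.linearIndependent.map' A.subtype (Submodule.ker_subtype A)
  have hspan : Submodule.span K (Set.range e) = A := by
    have h1 : Set.range e = A.subtype '' Set.range B := by
      rw [← Set.range_comp]
      rfl
    rw [h1, Submodule.span_image, B.span_eq, Submodule.map_top, Submodule.range_subtype]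
  have hee : ∀ i j, b.B (e i) (e j) = 0 := fun i j => hTI _ (B i).2 _ (B j).2
  obtain ⟨g, hg⟩ := exists_dual b he
  let f' : Fin (l + 1) → V := fun j => ε • g j
  have hf' : ∀ j, f' j = ε • g j := fun _ => rfl
  have h1 : ∀ i j, b.B (f' i) (e j) = if i = j then ε else 0 := by
    intro i j
    rw [hf', b.smul_left, hg]
    by_cases h : i = j
    · rw [if_pos h.symm, if_pos h, mul_one]
    · rw [if_neg (Ne.symm h), if_neg h, mul_zero]
  have h2 : ∀ i j, b.B (e i) (f' j) = if i = j then 1 else 0 := by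
    intro i j
    rw [hs (f' j) (e i), h1]
    by_cases h : i = j
    · rw [if_pos h, if_pos h.symm, hk.tau, hε]
    · rw [if_neg h, if_neg (Ne.symm h), map_zero, mul_zero]
  choose η hη using fun i => exists_eta b hk hs (f' i)
  let c : Fin (l + 1) → Fin (l + 1) → K := fun i j =>
    if i < j then -b.B (f' i) (f' j) else if i = j then η i else 0
  have hc : ∀ i j, c i j = if i < j then -b.B (f' i) (f' j) else if i = j then η i else 0 := fun _ _ => rfl
  have key : ∀ i j, c i j + ε * b.τ (c j i) + b.B (f' i) (f' j) = 0 := by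
    intro i j
    rcases lt_trichotomy i j with h | h | h
    · rw [hc i j, hc j i, if_pos h, if_neg (not_lt.2 h.le), if_neg h.ne', map_zero, mul_zero, add_zero,
        neg_add_cancel]
    · subst h
      rw [hc i i, if_neg (lt_irrefl i), if_pos rfl]
      exact hη i
    · rw [hc i j, hc j i, if_pos h, if_neg (not_lt.2 h.le), if_neg h.ne', map_neg, zero_add, hs (f' j) (f' i)]
      ring
  let f : Fin (l + 1) → V := fun i => f' i + ∑ k, c i k • e k
  have hf : ∀ i, f i = f' i + ∑ k, c i k • e k := fun _ => rfl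
  have h3 : ∀ i j, b.B (e i) (∑ k, c j k • e k) = 0 := by
    intro i j
    rw [B_sumr]
    refine Finset.sum_eq_zero fun k _ => ?_
    rw [b.smul_right, hee, mul_zero]
  refine ⟨ε, l, e, f, ⟨hk, hs, hee, fun i j => ?_, fun i j => ?_⟩, hspan⟩
  · rw [hf i, hf j, b.add_left, b.add_right, b.add_right]
    have e1 : b.B (f' i) (∑ k, c j k • e k) = ε * b.τ (c j i) := by
      rw [B_sumr, Finset.sum_eq_single i]
      · rw [b.smul_right, h1, if_pos rfl, mul_comm]
      · intro k _ hki
        rw [b.smul_right, h1, if_neg (Ne.symm hki), mul_zero]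
      · intro h; exact absurd (Finset.mem_univ _) h
    have e2 : b.B (∑ k, c i k • e k) (f' j) = c i j := by
      rw [B_suml, Finset.sum_eq_single j]
      · rw [b.smul_left, h2, if_pos rfl, mul_one]
      · intro k _ hkj
        rw [b.smul_left, h2, if_neg hkj, mul_zero]
      · intro h; exact absurd (Finset.mem_univ _) h
    have e3 : b.B (∑ k, c i k • e k) (∑ k, c j k • e k) = 0 := by
      rw [B_suml]
      refine Finset.sum_eq_zero fun k _ => ?_
      rw [b.smul_left, h3, mul_zero]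
    rw [e1, e2, e3]
    linear_combination key i j
  · rw [hf j, b.add_right, h3, add_zero, h2]

end

end Cfsg.Agent.H754.FC
end

-- part: H762/FC/Base3
section
/-!
# S5764, B-PAR, lemma L2: three vectors of `A^⊥ / A` (helper762)
-/

set_option autoImplicit false

namespace Cfsg.Agent.H762.FC

open Cfsg.Agent.H198.FC Cfsg.Agent.H412.FC

universe u v

section perp

variable {K : Type u} [Field K] {V : Type v} [AddCommGroup V] [Module K V]

/-- the orthogonal complement -/
def perp (b : Cl K V) (W : Submodule K V) : Submodule K V where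
  carrier := {v | ∀ w ∈ W, b.B v w = 0}
  add_mem' := fun {v v'} hv hv' w hw => by rw [b.add_left, hv w hw, hv' w hw, add_zero]
  zero_mem' := fun w _ => B_zero_left b w
  smul_mem' := fun a v hv w hw => by rw [b.smul_left, hv w hw, mul_zero]

theorem mem_perp {b : Cl K V} {W : Submodule K V} {v : V} : v ∈ perp b W ↔ ∀ w ∈ W, b.B v w = 0 := Iff.rfl

theorem B_symm0 (b : Cl K V) {v w : V} (h : b.B v w = 0) : b.B w v = 0 := by
  rcases b.typ with h' | h'
  · rw [h'.2 v w, h, map_zero]
  · have h1 := h'.2 (v + w)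
    rw [b.add_left, b.add_right, b.add_right, h'.2 v, h'.2 w, h] at h1
    simpa using h1

theorem B_sum_left (b : Cl K V) {ι : Type*} (s : Finset ι) (f : ι → V) (w : V) :
    b.B (∑ i ∈ s, f i) w = ∑ i ∈ s, b.B (f i) w := by
  classical
  induction s using Finset.induction_on with
  | empty => simp [B_zero_left]
  | insert a s ha ih => rw [Finset.sum_insert ha, Finset.sum_insert ha, b.add_left, ih]

theorem B_sum_right (b : Cl K V) {ι : Type*} (s : Finset ι) (f : ι → V) (w : V) :
    b.B w (∑ i ∈ s, f i) = ∑ i ∈ s, b.B w (f i) := by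
  classical
  induction s using Finset.induction_on with
  | empty => simp [B_zero_right]
  | insert a s ha ih => rw [Finset.sum_insert ha, Finset.sum_insert ha, b.add_right, ih]

theorem finrank_perp [Module.Finite K V] (b : Cl K V) (W : Submodule K V) :
    Module.finrank K (perp b W) + Module.finrank K W = Module.finrank K V := by
  set d := Module.finrank K W with hd
  let e : Module.Basis (Fin d) K W := Module.finBasis K W
  let L : V →ₗ[K] (Fin d → K) :=
    { toFun := fun v i => b.B v (e i)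
      map_add' := fun v v' => funext fun i => b.add_left _ _ _
      map_smul' := fun a v => funext fun i => b.smul_left _ _ _ }
  have hL : ∀ v i, L v i = b.B v (e i) := fun _ _ => rfl
  have hker : LinearMap.ker L = perp b W := by
    ext v
    rw [LinearMap.mem_ker, mem_perp]
    constructor
    · intro h w hw
      have h1 : (⟨w, hw⟩ : W) = ∑ i, e.repr ⟨w, hw⟩ i • e i := (e.sum_repr _).symm
      have h2 : w = ∑ i, e.repr ⟨w, hw⟩ i • (e i : V) := by
        have := congrArg W.subtype h1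
        rw [map_sum] at this
        simpa only [map_smul, Submodule.subtype_apply] using this
      rw [h2, B_sum_right]
      refine Finset.sum_eq_zero fun i _ => ?_
      rw [b.smul_right, ← hL, h]
      simp
    · intro h
      funext i
      exact h _ (e i).2
  have hsurj : LinearMap.range L = ⊤ := by
    by_contra hne
    obtain ⟨f, hf0, hf⟩ := Submodule.exists_le_ker_of_lt_top _ (lt_top_iff_ne_top.2 hne)
    apply hf0
    have h1 : ∀ x : Fin d → K, f x = ∑ i, x i * f (Pi.single i 1) := by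
      intro x
      conv_lhs => rw [← Finset.univ_sum_single x]
      rw [map_sum]
      refine Finset.sum_congr rfl fun i _ => ?_
      have : (Pi.single i (x i) : Fin d → K) = x i • Pi.single i 1 := by
        rw [← Pi.single_smul, smul_eq_mul, mul_one]
      rw [this, map_smul, smul_eq_mul]
    have h2 : ∀ v, b.B v (∑ i, b.τ (f (Pi.single i 1)) • (e i : V)) = 0 := by
      intro v
      rw [B_sum_right]
      have h3 : f (L v) = 0 := hf ⟨v, rfl⟩
      rw [h1] at h3
      rw [← h3]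
      refine Finset.sum_congr rfl fun i _ => ?_
      rw [b.smul_right, b.invol, hL, mul_comm]
    have h4 := nondeg_right b h2
    have h5 : ∑ i, b.τ (f (Pi.single i 1)) • e i = 0 := by
      apply Subtype.ext
      simpa using h4
    have h6 := (Fintype.linearIndependent_iff.1 e.linearIndependent) _ h5
    refine LinearMap.ext fun x => ?_
    rw [h1, LinearMap.zero_apply]
    refine Finset.sum_eq_zero fun i _ => ?_
    rw [(map_eq_zero b.τ).1 (h6 i), mul_zero]
  have h7 := LinearMap.finrank_range_add_finrank_ker L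
  rw [hsurj, hker, finrank_top, Module.finrank_fin_fun] at h7
  omega

theorem le_perp_perp (b : Cl K V) (W : Submodule K V) : W ≤ perp b (perp b W) := fun _ hv _ hw =>
  B_symm0 b (hw _ hv)

theorem perp_anti (b : Cl K V) {W W' : Submodule K V} (h : W ≤ W') : perp b W' ≤ perp b W := fun _ hv w hw =>
  hv w (h hw)

theorem TI_iff {b : Cl K V} {W : Submodule K V} : b.TI W ↔ W ≤ perp b W := Iff.rfl

/-- if `A ≤ W ≤ A^⊥` and `W ∩ W^⊥ = A` then `W + W^⊥ = A^⊥` -/
theorem sup_perp [Module.Finite K V] (b : Cl K V) {A W : Submodule K V} (hAW : A ≤ W) (hWA : W ≤ perp b A)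
    (h : W ⊓ perp b W = A) : W ⊔ perp b W = perp b A := by
  have h0 : W ⊔ perp b W ≤ perp b A := sup_le hWA (perp_anti b hAW)
  refine Submodule.eq_of_le_of_finrank_eq h0 ?_
  have h1 := Submodule.finrank_sup_add_finrank_inf_eq W (perp b W)
  have h2 := finrank_perp b W
  have h3 := finrank_perp b A
  rw [h] at h1
  omega

end perp

section quot

variable {K : Type u} [Field K] {V : Type v} [AddCommGroup V] [Module K V]

/-- an additive endomorphism acting on a section `P / A` -/
def secMap (P A : AddSubgroup V) (g : V → V) (hg : ∀ v w, g (v + w) = g v + g w) (h0 : g 0 = 0)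
    (hP : ∀ v ∈ P, g v ∈ P) (hA : ∀ v ∈ A, g v ∈ A) :
    (P ⧸ A.addSubgroupOf P) →+ (P ⧸ A.addSubgroupOf P) :=
  QuotientAddGroup.map _ _
    { toFun := fun v => ⟨g v, hP v v.2⟩
      map_zero' := Subtype.ext h0
      map_add' := fun v w => Subtype.ext (hg v w) }
    (fun v hv => by
      rw [AddSubgroup.mem_comap, AddSubgroup.mem_addSubgroupOf]
      rw [AddSubgroup.mem_addSubgroupOf] at hv
      exact hA _ hv)

theorem secMap_mk (P A : AddSubgroup V) (g : V → V) (hg h0 hP hA) (v : P) :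
    secMap P A g hg h0 hP hA (QuotientAddGroup.mk v) = QuotientAddGroup.mk ⟨g v, hP v v.2⟩ := rfl

end quot

theorem exists_base3 {K : Type u} [Field K] [Finite K] {V : Type v} [AddCommGroup V] [Module K V] [Module.Finite K V]
    {b : Cl K V} {G : Subgroup (Equiv.Perm V)} (hG : G ≤ Sim b) (hsol : Group.IsSolvable G)
    (hhom : ∀ a, hm K V a ∈ G) {A : Submodule K V} (hA : b.TI A) (hGA : ∀ g ∈ G, ∀ v ∈ A, g v ∈ A)
    (hmax : ∀ W : Submodule K V, A ≤ W → b.TI W → (∀ g ∈ G, ∀ v ∈ W, g v ∈ W) → W = A) :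
    ∃ w : Fin 3 → V, (∀ j, ∀ a ∈ A, b.B (w j) a = 0) ∧
      ∀ g ∈ G, (∀ j, g (w j) - w j ∈ A) → ∀ v, (∀ a ∈ A, b.B v a = 0) → g v - v ∈ A := by
  classical
  haveI : Finite V := Module.finite_of_finite K
  set P := perp b A with hPdef
  -- additivity
  have hadd : ∀ g ∈ G, ∀ v w, g (v + w) = g v + g w := by
    intro g hg v w
    obtain ⟨σ, μ, h⟩ := hG hg
    exact h.add v w
  have hz : ∀ g ∈ G, g 0 = 0 := by
    intro g hg
    obtain ⟨σ, μ, h⟩ := hG hg
    exact h.map_zero
  -- orthogonality is preserved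
  have hort : ∀ W : Submodule K V, (∀ g ∈ G, ∀ v ∈ W, g v ∈ W) → ∀ g ∈ G, ∀ v ∈ perp b W, g v ∈ perp b W := by
    intro W hW g hg v hv w hw
    obtain ⟨σ, μ, h⟩ := hG hg
    have h1 : w = g (g⁻¹ w) := by simp
    rw [h1, h.form, hv _ (hW g⁻¹ (inv_mem hg) w hw), map_zero, mul_zero]
  have hGP : ∀ g ∈ G, ∀ v ∈ P, g v ∈ P := hort A hGA
  have hAP : A ≤ P := hA
  let P' : AddSubgroup V := P.toAddSubgroup
  let A' : AddSubgroup V := A.toAddSubgroup
  let Q := P' ⧸ A'.addSubgroupOf P'
  haveI : Finite Q := inferInstance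
  let φ : G →* AddMonoid.End Q :=
    { toFun := fun g => secMap P' A' g (hadd g g.2) (hz g g.2) (hGP g g.2) (hGA g g.2)
      map_one' := by
        refine AddMonoidHom.ext fun q => ?_
        obtain ⟨v, rfl⟩ := QuotientAddGroup.mk_surjective q
        rfl
      map_mul' := fun g h => by
        refine AddMonoidHom.ext fun q => ?_
        obtain ⟨v, rfl⟩ := QuotientAddGroup.mk_surjective q
        rfl }
  have hφ : ∀ (g : G) (v : P'), φ g (QuotientAddGroup.mk v) = QuotientAddGroup.mk ⟨(g : Equiv.Perm V) v, hGP g g.2 v v.2⟩ :=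
    fun g v => rfl
  let Ψ : G →* (AddMonoid.End Q)ˣ := φ.toHomUnits
  let H := Ψ.range
  haveI : Finite H := Finite.of_surjective Ψ.rangeRestrict Ψ.rangeRestrict_surjective
  have hHs : Group.IsSolvable H := Group.isSolvable_of_surjective (f := Ψ.rangeRestrict) Ψ.rangeRestrict_surjective
  have hact : ∀ (g : G) (q : Q), (⟨Ψ g, g, rfl⟩ : H) • q = φ g q := fun g q => rfl
  have hcr : ∀ U : AddSubgroup Q, (∀ a : H, ∀ v ∈ U, a • v ∈ U) →
      ∃ W : AddSubgroup Q, (∀ a : H, ∀ w ∈ W, a • w ∈ W) ∧ U ⊓ W = ⊥ ∧ U ⊔ W = ⊤ := by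
    intro U hU
    -- the preimage
    have hU' : ∀ (g : G), ∀ q ∈ U, φ g q ∈ U := fun g q hq => hU ⟨Ψ g, g, rfl⟩ q hq
    let W : Submodule K V :=
      { carrier := {v | ∃ hv : v ∈ P', (QuotientAddGroup.mk ⟨v, hv⟩ : Q) ∈ U}
        add_mem' := by
          rintro v w ⟨hv, hv'⟩ ⟨hw, hw'⟩
          exact ⟨add_mem hv hw, U.add_mem hv' hw'⟩
        zero_mem' := ⟨zero_mem _, U.zero_mem⟩
        smul_mem' := by
          rintro a v ⟨hv, hv'⟩
          by_cases ha : a = 0
          · subst ha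
            have : (0 : K) • v = 0 := zero_smul K v
            refine ⟨by rw [this]; exact zero_mem _, ?_⟩
            have h2 : (⟨(0 : K) • v, by rw [this]; exact zero_mem _⟩ : P') = 0 := Subtype.ext this
            have h3 : (QuotientAddGroup.mk (⟨(0 : K) • v, by rw [this]; exact zero_mem _⟩ : P') : Q) = 0 := by
              rw [h2]; rfl
            rw [h3]
            exact U.zero_mem
          · have h1 := hU' ⟨hm K V (Units.mk0 a ha), hhom _⟩ _ hv'
            rw [hφ] at h1
            exact ⟨P.smul_mem a hv, h1⟩ }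
    have hW : ∀ v, v ∈ W ↔ ∃ hv : v ∈ P', (QuotientAddGroup.mk ⟨v, hv⟩ : Q) ∈ U := fun v => Iff.rfl
    have hmkA : ∀ (v : V) (hv : v ∈ P'), v ∈ A → (QuotientAddGroup.mk ⟨v, hv⟩ : Q) = 0 := by
      intro v hv hvA
      rw [QuotientAddGroup.eq_zero_iff, AddSubgroup.mem_addSubgroupOf]
      exact hvA
    have hmkA' : ∀ (v : V) (hv : v ∈ P'), (QuotientAddGroup.mk ⟨v, hv⟩ : Q) = 0 → v ∈ A := by
      intro v hv h
      rw [QuotientAddGroup.eq_zero_iff, AddSubgroup.mem_addSubgroupOf] at h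
      exact h
    have hAW : A ≤ W := fun v hv => ⟨hAP hv, by rw [hmkA v _ hv]; exact U.zero_mem⟩
    have hWP : W ≤ P := fun v hv => hv.1
    have hGW : ∀ g ∈ G, ∀ v ∈ W, g v ∈ W := by
      rintro g hg v ⟨hv, hv'⟩
      have h1 := hU' ⟨g, hg⟩ _ hv'
      rw [hφ] at h1
      exact ⟨hGP g hg v hv, h1⟩
    have hGW' := hort W hGW
    have hinf : W ⊓ perp b W = A := by
      refine hmax _ (le_inf hAW (le_trans (le_perp_perp b A) (perp_anti b hWP))) ?_ ?_
      · intro v hv w hw
        exact hv.2 w hw.1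
      · intro g hg v hv
        exact ⟨hGW g hg v hv.1, hGW' g hg v hv.2⟩
    have hsup : W ⊔ perp b W = P := sup_perp b hAW hWP hinf
    have hpP : perp b W ≤ P := perp_anti b hAW
    let U' : AddSubgroup Q :=
      ((perp b W).toAddSubgroup.addSubgroupOf P').map (QuotientAddGroup.mk' (A'.addSubgroupOf P'))
    have hU'mem : ∀ q, q ∈ U' ↔ ∃ v : V, ∃ hv : v ∈ P', v ∈ perp b W ∧ (QuotientAddGroup.mk ⟨v, hv⟩ : Q) = q := by
      intro q
      constructor
      · rintro ⟨⟨v, hv⟩, h1, h2⟩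
        exact ⟨v, hv, h1, h2⟩
      · rintro ⟨v, hv, h1, h2⟩
        exact ⟨⟨v, hv⟩, h1, h2⟩
    refine ⟨U', ?_, ?_, ?_⟩
    · rintro ⟨_, g, rfl⟩ q hq
      obtain ⟨v, hv, h1, rfl⟩ := (hU'mem q).1 hq
      refine (hU'mem _).2 ⟨(g : Equiv.Perm V) v, hGP g g.2 v hv, hGW' g g.2 v h1, ?_⟩
      rfl
    · rw [eq_bot_iff]
      rintro q ⟨hq, hq'⟩
      obtain ⟨v, hv, h1, rfl⟩ := (hU'mem q).1 hq'
      have h2 : v ∈ W := ⟨hv, hq⟩
      have h3 : v ∈ A := by rw [← hinf]; exact ⟨h2, h1⟩
      rw [AddSubgroup.mem_bot]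
      exact hmkA v hv h3
    · rw [eq_top_iff]
      rintro q -
      obtain ⟨⟨v, hv⟩, rfl⟩ := QuotientAddGroup.mk_surjective q
      have h1 : v ∈ W ⊔ perp b W := by rw [hsup]; exact hv
      obtain ⟨w, hw, w', hw', rfl⟩ := Submodule.mem_sup.1 h1
      have h2 : (QuotientAddGroup.mk (⟨w + w', hv⟩ : P') : Q) =
          QuotientAddGroup.mk (⟨w, hWP hw⟩ : P') + QuotientAddGroup.mk (⟨w', hpP hw'⟩ : P') := rfl
      rw [h2]
      refine add_mem (AddSubgroup.mem_sup_left ?_) (AddSubgroup.mem_sup_right ?_)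
      · obtain ⟨h3, h4⟩ := hw
        exact h4
      · exact (hU'mem _).2 ⟨w', hpP hw', hw', rfl⟩
  obtain ⟨q₁, q₂, q₃, hq⟩ := Cfsg.Agent.H578.base3 (A := H) (V := Q) hHs hcr
  obtain ⟨w₁, rfl⟩ := QuotientAddGroup.mk_surjective q₁
  obtain ⟨w₂, rfl⟩ := QuotientAddGroup.mk_surjective q₂
  obtain ⟨w₃, rfl⟩ := QuotientAddGroup.mk_surjective q₃
  have hmk : ∀ (v w : P'), (QuotientAddGroup.mk v : Q) = QuotientAddGroup.mk w ↔ (v : V) - w ∈ A := by
    intro v w
    rw [eq_comm, QuotientAddGroup.eq, AddSubgroup.mem_addSubgroupOf]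
    have : ((-w + v : P') : V) = (v : V) - w := by
      simp [sub_eq_add_neg, add_comm]
    rw [this]
    rfl
  refine ⟨![w₁, w₂, w₃], ?_, ?_⟩
  · intro j
    fin_cases j
    · exact w₁.2
    · exact w₂.2
    · exact w₃.2
  · intro g hg hj v hv
    have h1 := hq ⟨Ψ ⟨g, hg⟩, ⟨g, hg⟩, rfl⟩
      (by rw [hact, hφ, hmk]; exact hj 0) (by rw [hact, hφ, hmk]; exact hj 1) (by rw [hact, hφ, hmk]; exact hj 2)
    have h2 : φ ⟨g, hg⟩ = 1 := by
      have := congrArg (fun z : H => ((z : (AddMonoid.End Q)ˣ) : AddMonoid.End Q)) h1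
      exact this
    have h3 : φ ⟨g, hg⟩ (QuotientAddGroup.mk (⟨v, hv⟩ : P')) = QuotientAddGroup.mk (⟨v, hv⟩ : P') := by
      rw [h2]; rfl
    rw [hφ, hmk] at h3
    exact h3

end Cfsg.Agent.H762.FC
end

-- part: H5/FC/BPar
section
/-!
# S5764 [B-PAR] (helper5)
-/

set_option autoImplicit false

namespace Cfsg.Agent.H5.FC

open Cfsg Cfsg.Agent.H198.FC Cfsg.Agent.H412.FC Cfsg.Agent.H786.FC
open Cfsg.Agent.H200.FC (up up_solv)

universe u v

theorem fiveBV_par {K : Type u} [Field K] [Finite K] {V : Type v} [AddCommGroup V] [Module K V] [Module.Finite K V]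
    {b : Cl K V} (hn : 3 ≤ Module.finrank K V) {G : Subgroup (Equiv.Perm V)} (hG : G ≤ Sim b)
    (hsol : Group.IsSolvable G) (hhom : ∀ a, hm K V a ∈ G) {A : Submodule K V} (hA0 : A ≠ ⊥) (hA : b.TI A)
    (hGA : ∀ g ∈ G, ∀ v ∈ A, g v ∈ A)
    (hmax : ∀ W : Submodule K V, A ≤ W → b.TI W → (∀ g ∈ G, ∀ v ∈ W, g v ∈ W) → W = A) : FiveBV b G := by
  classical
  obtain ⟨ε, l, e, f, H, rfl⟩ := H754.FC.exists_hyp b hA0 hA
  obtain ⟨w, hw, hbase⟩ := H762.FC.exists_base3 hG hsol hhom hA hGA hmax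
  have h1 : ∀ t, ∃ y, Hy.InY b e f y ∧ w t - y ∈ Submodule.span K (Set.range e) := by
    intro t
    obtain ⟨y, hy, h⟩ := H.exists_dec (w t)
    refine ⟨y, hy, ?_⟩
    have h2 : ∑ i, (ε * b.B (w t) (e i)) • f i = 0 := Finset.sum_eq_zero fun i _ => by
      rw [hw t _ (Submodule.subset_span ⟨i, rfl⟩), mul_zero, zero_smul]
    rw [h2, add_zero] at h
    rw [sub_eq_of_eq_add h]
    exact Submodule.sum_mem _ fun i _ => Submodule.smul_mem _ _ (Submodule.subset_span ⟨i, rfl⟩)
  choose y0 hy0 hwy using h1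
  have hb : ∀ g ∈ G, (∀ t, g (y0 t) - y0 t ∈ Submodule.span K (Set.range e)) →
      ∀ v, (∀ j, b.B v (e j) = 0) → g v - v ∈ Submodule.span K (Set.range e) := by
    intro g hg h v hv
    obtain ⟨σ, μ, hs⟩ := hG hg
    refine hbase g hg (fun j => ?_) v (fun a ha => Hy.perp_span hv ha)
    have : g (w j) - w j = g (w j - y0 j) + (g (y0 j) - y0 j) - (w j - y0 j) := by
      rw [hs.map_sub]; abel
    rw [this]
    exact Submodule.sub_mem _ (Submodule.add_mem _ (hGA g hg _ (hwy j)) (h j)) (hwy j)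
  by_cases hY : ∃ v, Hy.InY b e f v ∧ v ≠ 0
  · obtain ⟨v0, hv0, hv0'⟩ := hY
    by_cases hy : ∃ t, y0 t ≠ 0
    · exact par_core H hG hhom hGA hy0 (Or.inl hy) hb
    · push Not at hy
      refine par_core H hG hhom hGA (y := fun _ => v0) (fun _ => hv0) (Or.inl ⟨0, hv0'⟩)
        fun g hg h => hb g hg fun t => ?_
      obtain ⟨σ, μ, hs⟩ := hG hg
      rw [hy, hs.map_zero, sub_zero]
      exact zero_mem _
  · push Not at hY
    refine par_core H hG hhom hGA hy0 (Or.inr ⟨?_, fun v hv => hY v hv⟩) hb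
    by_contra hl
    obtain rfl : l = 0 := by omega
    have h2 : (⊤ : Submodule K V) ≤ Submodule.span K (Set.range ![e 0, f 0]) := by
      intro v _
      obtain ⟨y, hy, h⟩ := H.exists_dec v
      rw [hY y hy, add_zero] at h
      rw [h, Fin.sum_univ_one, Fin.sum_univ_one]
      exact Submodule.add_mem _ (Submodule.smul_mem _ _ (Submodule.subset_span ⟨0, rfl⟩))
        (Submodule.smul_mem _ _ (Submodule.subset_span ⟨1, rfl⟩))
    have h3 : Module.finrank K (⊤ : Submodule K V) ≤ 2 :=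
      (Submodule.finrank_mono h2).trans (finrank_range_le_card (R := K) ![e 0, f 0])
    rw [finrank_top] at h3
    omega

theorem stmtBParK (c : Bool) : StmtBParK.{u, v} c := by
  intro K _ _ V _ _ _ b _ hbig S hS hsol ⟨W, hW0, hW, hSW⟩
  have h3 : 3 ≤ Module.finrank K V := by
    rcases hbig with h | h
    · exact h.2.1
    · exact le_trans (by norm_num) h.2.1
  haveI : Nontrivial V := Module.nontrivial_of_finrank_pos (R := K) (by omega)
  haveI : Finite V := Module.finite_of_finite K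
  refine fiveB_of_up hS ?_
  obtain ⟨A, hWA, hA⟩ := (Set.toFinite
    {X : Submodule K V | b.TI X ∧ ∀ g ∈ up S, ∀ v ∈ X, g v ∈ X}).exists_le_maximal
    (show W ∈ {X : Submodule K V | b.TI X ∧ ∀ g ∈ up S, ∀ v ∈ X, g v ∈ X} from
      ⟨hW, fun g hg w hw => up_stable hSW hg hw⟩)
  refine fiveBV_par h3 (up_le_Sim hS) (up_solv S hsol) (hm_mem_up S) (A := A) ?_ hA.prop.1 hA.prop.2
    fun X hAX hX hGX => le_antisymm (hA.le_of_ge ⟨hX, hGX⟩ hAX) hAX
  rintro rfl
  exact hW0 (le_bot_iff.1 hWA)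

/-- **[B-PAR]** -/
theorem stmtBPar : StmtBPar.{u, v} := stmtBPar_of (stmtBParK true) (stmtBParK false)

end Cfsg.Agent.H5.FC
end
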